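import Cfsg.Agent.Lib.Crit5.Shape
import Cfsg.Agent.Lib.Suzuki2.FieldModel

/-!
# The single fixed point criterion, section S: the torus and the field on the members at a point

When the members at `a` commute they form with `1` the additive group of `GF(q)`; a cyclic torus
fixing two points is regular on them, the translations centralise them, and every element fixing `a`
and normalising `Y` acts semilinearly.
-/

set_option autoImplicit false
set_option linter.style.haveILetI false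

namespace Cfsg.Agent.Lib.Crit5.Shape

open MulAction Cfsg.Agent.Lib.Involutions.Basic
open Cfsg.Agent.Lib.RankOne.Basic
open Cfsg.Agent.Lib.Crit8 (Pre memAt)
open Cfsg.Agent.Lib.BenderSuzuki (invs qNum kSet vGrp vKer IsLinearCase IsSuzukiCase)

universe u v

namespace Model

variable {G : Type u} {Ω : Type v} [Group G] [MulAction G Ω] [Finite G] {a : Ω} {t : G}
  {Q : Subgroup G} (h : Model G Ω a t Q)
include h

/-- What centralises `t` in the two-point stabiliser centralises the involutions at `a`. -/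
theorem vGrp_le_vKer : vGrp a t ≤ vKer a t := by
  have key : ((⊤ ⊓ twoStab G a t : Subgroup G) : Set G) = kSet a t → vGrp a t ≤ vKer a t := by
    intro hK c hc
    have hcK : c ∈ kSet a t := by rw [← hK]; exact ⟨trivial, hc.1⟩
    have hct : t * c * t⁻¹ = c :=
      mul_inv_eq_iff_eq_mul.2 (Subgroup.mem_centralizer_singleton_iff.1 hc.2).symm
    have h2 : c⁻¹ = c := hcK.2.symm.trans hct
    have h1 : c = 1 := RankOne.Involution.eq_one_of_sq h.hyp.setup.odd_card hc.1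
      (by nth_rewrite 1 [← h2]; exact inv_mul_cancel c)
    rw [h1]; exact one_mem _
  rcases h.cases_top with ⟨-, hK, -⟩ | ⟨-, hK, -⟩ | ⟨-, hle, -⟩
  · exact key hK
  · exact key hK
  · exact le_trans (le_inf le_top le_rfl) hle

/-- An element of the two-point stabiliser acts on the involutions as an inverted one. -/
theorem exists_kSet_action {d : G} (hd : d ∈ twoStab G a t) :
    ∃ k ∈ kSet a t, ∀ s ∈ invs G a, d * s * d⁻¹ = k * s * k⁻¹ := by
  obtain ⟨c, hc, k, hk, hct, rfl⟩ := exists_CK h.hyp.setup hd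
  refine ⟨k, hk, fun s hs => ?_⟩
  have hv : c ∈ vKer a t := h.vGrp_le_vKer
    ⟨hc, Subgroup.mem_centralizer_singleton_iff.2 (mul_inv_eq_iff_eq_mul.1 hct).symm⟩
  have h1 := Subgroup.mem_centralizer_iff.1 hv.2 _ (inverted_conj_mem h.hyp.setup hs hk.1.1)
  calc c * k * s * (c * k)⁻¹ = c * (k * s * k⁻¹) * c⁻¹ := by group
    _ = k * s * k⁻¹ := by rw [← h1, mul_inv_cancel_right]

/-- A generator of the torus. -/
theorem exists_generator : ∃ k₀ ∈ kSet a t,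
    (∀ k ∈ kSet a t, ∃ n : ℕ, k₀ ^ n = k) ∧ (∀ n : ℕ, k₀ ^ n ∈ kSet a t) ∧
      orderOf k₀ + 1 = qNum G a := by
  haveI := h.hyp.faithful
  obtain ⟨C, hC, hcyc, -⟩ := Cfsg.Agent.S1131.result h.hyp.setup h.hyp.twoRank
  obtain ⟨g, hg⟩ := hcyc.exists_monoid_generator
  have hmem : ∀ x : G, x ∈ C ↔ x ∈ kSet a t := fun x => by rw [← SetLike.mem_coe, hC]
  refine ⟨g, (hmem _).1 g.2, fun k hk => ?_, fun n => (hmem _).1 (C.pow_mem g.2 n), ?_⟩
  · obtain ⟨n, hn⟩ := (Submonoid.mem_powers_iff _ _).1 (hg ⟨k, (hmem k).2 hk⟩)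
    exact ⟨n, congrArg Subtype.val hn⟩
  · rw [Subgroup.orderOf_coe, orderOf_eq_card_of_forall_mem_zpowers fun x => by
        obtain ⟨n, hn⟩ := (Submonoid.mem_powers_iff _ _).1 (hg x)
        exact ⟨n, (zpow_natCast g n).trans hn⟩,
      qNum, ← card_invertedBy h.hyp.setup,
      show Nat.card C = Nat.card (C : Set G) from rfl, hC]

end Model

namespace Loc

variable {G Ω : Type u} [Group G] [MulAction G Ω] [Finite G] {D : Set G} {Y : Subgroup G} {a : Ω}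
  (hP : Pre G Ω D) (hY : Loc D Y a)
include hY hP

/-- Conjugation by what normalises `Y` and fixes `a` permutes the members at `a`. -/
theorem conj_memIn {g : G} (hg : g ∈ auto Y a) {d : G} (hd : d ∈ memIn D Y a) :
    g * d * g⁻¹ ∈ memIn D Y a := by
  have h1 := hP.conj_mem_memAt (g := g) hd.1
  rw [show g • a = a from hg.2] at h1
  exact ⟨h1, (Subgroup.mem_normalizer_iff.1 hg.1 _).1 hd.2⟩

omit hP hY in
theorem mem_auto {y : G} (hy : y ∈ Y) (hya : y • a = a) : y ∈ auto Y a :=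
  ⟨Subgroup.le_normalizer hy, hya⟩

/-- Conjugates of members are determined by the action on the points. -/
theorem conj_eq_of_img (hcomm : ∀ d ∈ memIn D Y a, ∀ e ∈ memIn D Y a, Commute d e) {y : Y}
    (hy : (y : G) • a = a) {d e : G} (hd : d ∈ memIn D Y a) (he : e ∈ memIn D Y a)
    (h : toImg Y (orbit Y a) y * toImg Y (orbit Y a) ⟨d, hd.2⟩ * (toImg Y (orbit Y a) y)⁻¹ =
      toImg Y (orbit Y a) ⟨e, he.2⟩) : (y : G) * d * (y : G)⁻¹ = e := by
  have hm := hY.conj_memIn hP (mem_auto y.2 hy) hd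
  refine hY.eq_of_sameOn hP hm he (hcomm _ hm _ he) ((sameOn_iff hm.2 he.2).2 ?_)
  rw [← map_inv, ← map_mul, ← map_mul] at h
  exact h

/-- Translations: `Y` moves any other point to any other centralising the members at `a`. -/
theorem exists_translation (h2 : Four Y)
    (hcomm : ∀ d ∈ memIn D Y a, ∀ e ∈ memIn D Y a, Commute d e) {p p' : Ω} (hp : p ∈ orbit Y a)
    (hp' : p' ∈ orbit Y a) (hpa : p ≠ a) (hp'a : p' ≠ a) :
    ∃ y ∈ Y, y • a = a ∧ y • p = p' ∧ ∀ d ∈ memIn D Y a, Commute y d := by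
  obtain ⟨t, Q, h⟩ := hY.exists_model' hP h2
  obtain ⟨x, hx, hxp⟩ := Q_trans h.hyp.setup (c := (⟨p, hp⟩ : orbit Y a)) (d := ⟨p', hp'⟩)
    (fun e => hpa (congrArg Subtype.val e)) (fun e => hp'a (congrArg Subtype.val e))
  obtain ⟨y, rfl⟩ := toImg_surjective x
  have hya : (y : G) • a = a := congrArg Subtype.val (Q_fix h.hyp.setup hx)
  refine ⟨y, y.2, hya, congrArg Subtype.val hxp, fun d hd => ?_⟩
  exact mul_inv_eq_iff_eq_mul.1 (hY.conj_eq_of_img hP hcomm hya hd hd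
    (mul_inv_eq_iff_eq_mul.2 (h.invs_comm (hY.invs_of_memIn hP hd) hx).symm))

/-- The members at `a` with the identity. -/
def eSub (hcomm : ∀ d ∈ memIn D Y a, ∀ e ∈ memIn D Y a, Commute d e) : Subgroup G where
  carrier := {x | x = 1 ∨ x ∈ memIn D Y a}
  one_mem' := Or.inl rfl
  mul_mem' := by
    rintro x y (rfl | hx) hy
    · rwa [one_mul]
    rcases hy with rfl | hy
    · rw [mul_one]; exact Or.inr hx
    by_cases hxy : x = y
    · subst hxy; exact Or.inl (invol_mul_self (hP.invol x hx.1.1))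
    refine Or.inr ⟨⟨hY.mem_D hP (mul_mem hx.2 hy.2) (invol_iff.2 ⟨?_, fun e => hxy ?_⟩), ?_⟩,
      mul_mem hx.2 hy.2⟩
    · rw [← sq, (hcomm x hx y hy).mul_pow, sq, sq, invol_mul_self (hP.invol x hx.1.1),
        invol_mul_self (hP.invol y hy.1.1), one_mul]
    · rw [eq_inv_of_mul_eq_one_left e, invol_inv (hP.invol y hy.1.1)]
    · rw [mul_smul, hy.1.2, hx.1.2]
  inv_mem' := by
    rintro x (rfl | hx)
    · exact Or.inl inv_one
    · rw [invol_inv (hP.invol x hx.1.1)]; exact Or.inr hx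

/-- A cyclic torus fixing two points, regular on the members at `a`. -/
theorem exists_torus (h2 : Four Y)
    (hcomm : ∀ d ∈ memIn D Y a, ∀ e ∈ memIn D Y a, Commute d e) {b : Ω} (hb : b ∈ orbit Y a)
    (hba : b ≠ a) :
    ∃ c ∈ Y, c • a = a ∧ c • b = b ∧
      (∀ d ∈ memIn D Y a, ∀ e ∈ memIn D Y a, ∃ n : ℕ, c ^ n * d * (c ^ n)⁻¹ = e) ∧
      (∀ d ∈ memIn D Y a, ∀ n : ℕ, c ^ n * d * (c ^ n)⁻¹ = d ↔ qOf Y a - 1 ∣ n) ∧
      ∀ y ∈ Y, y • a = a → y • b = b →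
        ∃ n : ℕ, ∀ d ∈ memIn D Y a, y * d * y⁻¹ = c ^ n * d * (c ^ n)⁻¹ := by
  obtain ⟨t, Q, ht, h⟩ := hY.exists_model hP h2 ⟨b, hb⟩ fun e => hba (congrArg Subtype.val e)
  obtain ⟨k₀, hk₀, hgen, hpow, hord⟩ := h.exists_generator
  obtain ⟨c, rfl⟩ := toImg_surjective k₀
  have hca : (c : G) • a = a := congrArg Subtype.val (mem_twoStab.1 hk₀.1).1
  have hcb : (c : G) • b = b := by
    have := (mem_twoStab.1 hk₀.1).2
    rw [ht] at this
    exact congrArg Subtype.val this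
  have hcn : ∀ n : ℕ, ((c ^ n : Y) : G) • a = a := fun n => by
    rw [SubmonoidClass.coe_pow]
    exact (stabilizer G a).pow_mem (show (c : G) ∈ stabilizer G a from hca) n
  have himg : ∀ (n : ℕ) (d : G) (hd : d ∈ memIn D Y a) (e : G) (he : e ∈ memIn D Y a),
      (toImg Y (orbit Y a) c ^ n) * toImg Y (orbit Y a) ⟨d, hd.2⟩ *
          (toImg Y (orbit Y a) c ^ n)⁻¹ = toImg Y (orbit Y a) ⟨e, he.2⟩ ↔
        (c : G) ^ n * d * ((c : G) ^ n)⁻¹ = e := by
    intro n d hd e he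
    rw [← map_pow]
    refine ⟨fun e1 => ?_, fun e1 => ?_⟩
    · have := hY.conj_eq_of_img hP hcomm (hcn n) hd he e1
      rwa [SubmonoidClass.coe_pow] at this
    · rw [← map_inv, ← map_mul, ← map_mul]
      congr 1
      exact Subtype.ext (by simpa using e1)
  refine ⟨c, c.2, hca, hcb, fun d hd e he => ?_, fun d hd n => ?_, fun y hy hya hyb => ?_⟩
  · obtain ⟨k, ⟨hk, hke⟩, -⟩ := existsUnique_K h.hyp.setup (hY.invs_of_memIn hP hd)
      (hY.invs_of_memIn hP he)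
    obtain ⟨n, rfl⟩ := hgen k hk
    exact ⟨n, (himg n d hd e he).1 hke⟩
  · rw [← himg n d hd d hd, qOf, ← hord, Nat.add_sub_cancel, orderOf_dvd_iff_pow_eq_one]
    refine ⟨fun e => (existsUnique_K h.hyp.setup (hY.invs_of_memIn hP hd)
      (hY.invs_of_memIn hP hd)).unique ⟨hpow n, e⟩ ⟨?_, by simp⟩, fun e => by rw [e]; simp⟩
    simpa using hpow 0
  · obtain ⟨k, hk, hke⟩ := h.exists_kSet_action (d := toImg Y (orbit Y a) ⟨y, hy⟩)
      (mem_twoStab.2 ⟨Subtype.ext hya, by rw [ht]; exact Subtype.ext hyb⟩)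
    obtain ⟨n, rfl⟩ := hgen k hk
    refine ⟨n, fun d hd => ?_⟩
    refine (((himg n d hd _ (hY.conj_memIn hP (mem_auto hy hya) hd)).1 ?_)).symm
    rw [← hke _ (hY.invs_of_memIn hP hd), ← map_inv, ← map_mul, ← map_mul]
    rfl

/-- The field on the members at `a`. -/
theorem exists_field (h2 : Four Y)
    (hcomm : ∀ d ∈ memIn D Y a, ∀ e ∈ memIn D Y a, Commute d e) {b : Ω} (hb : b ∈ orbit Y a)
    (hba : b ≠ a) :
    ∃ (i : ℕ) (ι : G → GaloisField 2 i), 2 ≤ i ∧ qOf Y a = 2 ^ i ∧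
      Set.BijOn ι (insert 1 (memIn D Y a)) Set.univ ∧ ι 1 = 0 ∧
      (∀ d ∈ insert 1 (memIn D Y a), ∀ e ∈ insert 1 (memIn D Y a), ι (d * e) = ι d + ι e) ∧
      (∀ x : GaloisField 2 i, x ≠ 0 → ∃ c ∈ Y, c • a = a ∧ c • b = b ∧
        ∀ d ∈ memIn D Y a, ι (c * d * c⁻¹) = x * ι d) ∧
      ∀ g ∈ auto Y a, ∃ (σ : GaloisField 2 i ≃+* GaloisField 2 i) (x : GaloisField 2 i),
        x ≠ 0 ∧ ∀ d ∈ memIn D Y a, ι (g * d * g⁻¹) = x * σ (ι d) := by
  classical
  obtain ⟨i, hi, hq⟩ := hY.qOf_pow hP h2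
  obtain ⟨c, hc, hca, hcb, hctr, -, hcact⟩ := hY.exists_torus hP h2 hcomm hb hba
  set A := eSub hP hY hcomm
  have hA : ∀ x : A, x ≠ 1 → (x : G) ∈ memIn D Y a := fun x hx =>
    x.2.resolve_left fun e => hx (Subtype.ext e)
  have hmemA : ∀ {d : G}, d ∈ memIn D Y a → d ∈ A := fun hd => Or.inr hd
  have hcard : Nat.card A = 2 ^ i := by
    have e : (A : Set G) = insert 1 (memIn D Y a) := rfl
    rw [← hq, ← hY.card_memIn hP hcomm, show Nat.card A = (A : Set G).ncard from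
      Nat.card_coe_set_eq _, e, Set.ncard_insert_of_notMem
      (fun h1 => invol_ne_one (hP.invol 1 h1.1.1) rfl) (Set.toFinite _), Nat.card_coe_set_eq]
  have hsq : ∀ x : A, x * x = 1 := fun x => by
    by_cases hx : x = 1
    · rw [hx, one_mul]
    · exact Subtype.ext (invol_mul_self (hP.invol _ (hA x hx).1.1))
  have hconjA : ∀ g : auto Y a, ∀ x ∈ A, (g : G) * x * (g : G)⁻¹ ∈ A := by
    rintro g x (rfl | hx)
    · left; simp
    · exact hmemA (hY.conj_memIn hP g.2 hx)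
  let ρ : auto Y a →* MulAut A :=
    { toFun := fun g =>
        { toFun := fun x => ⟨g * x * (g : G)⁻¹, hconjA g x x.2⟩
          invFun := fun x => ⟨(g : G)⁻¹ * x * g, by simpa using hconjA g⁻¹ x x.2⟩
          left_inv := fun x => Subtype.ext (by simp [mul_assoc])
          right_inv := fun x => Subtype.ext (by simp [mul_assoc])
          map_mul' := fun x y => Subtype.ext (by simp [mul_assoc]) }
      map_one' := MulEquiv.ext fun x => Subtype.ext (by simp)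
      map_mul' := fun g g' => MulEquiv.ext fun x => Subtype.ext (by simp [mul_assoc]) }
  have hρ : ∀ (g : auto Y a) (x : A), ((ρ g x : A) : G) = g * x * (g : G)⁻¹ := fun _ _ => rfl
  set c' : auto Y a := ⟨c, mem_auto hc hca⟩
  set L := (Subgroup.zpowers c').map ρ
  have hLpow : ∀ n : ℕ, ρ (c' ^ n) ∈ L := fun n =>
    ⟨c' ^ n, Subgroup.pow_mem _ (Subgroup.mem_zpowers c') n, rfl⟩
  have hLcomm : ∀ k ∈ L, ∀ l ∈ L, k * l = l * k := by
    rintro _ ⟨k, hk, rfl⟩ _ ⟨l, hl, rfl⟩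
    obtain ⟨m, rfl⟩ := Subgroup.mem_zpowers_iff.1 hk
    obtain ⟨n, rfl⟩ := Subgroup.mem_zpowers_iff.1 hl
    rw [← map_mul, ← map_mul, (Commute.zpow_zpow (Commute.refl c') m n).eq]
  have hLtrans : ∀ x y : A, x ≠ 1 → y ≠ 1 → ∃ k ∈ L, k x = y := by
    intro x y hx hy
    obtain ⟨n, hn⟩ := hctr _ (hA x hx) _ (hA y hy)
    exact ⟨_, hLpow n, Subtype.ext hn⟩
  obtain ⟨d₀, hd₀⟩ : (memIn D Y a).Nonempty := by
    rw [Set.nonempty_iff_ne_empty]
    intro e
    have h4 := hY.four_le hP h2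
    rw [← hY.card_memIn hP hcomm, e] at h4
    simp at h4
  set a₀ : A := ⟨d₀, hmemA hd₀⟩
  have ha₀ : a₀ ≠ 1 := fun e => invol_ne_one (hP.invol _ hd₀.1.1) (congrArg Subtype.val e)
  obtain ⟨ι₀, hbij, hadd, hzero, hone, hmul⟩ := Suzuki2.FieldModel.field_model (by omega) hcard hsq
    L hLcomm hLtrans ha₀
  let ι : G → GaloisField 2 i := fun x => if hx : x ∈ A then ι₀ ⟨x, hx⟩ else 0
  have hι : ∀ x : A, ι x = ι₀ x := fun x => dif_pos x.2
  have hι0 : ∀ x : A, x ≠ 1 → ι₀ x ≠ 0 := fun x hx e => hx (hbij.1 (e.trans hzero.symm))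
  refine ⟨i, ι, hi, hq, ⟨fun x _ => Set.mem_univ _, ?_, ?_⟩, (hι 1).trans hzero, ?_, ?_, ?_⟩
  · intro x hx y hy e
    have hx' : x ∈ A := hx
    have hy' : y ∈ A := hy
    exact congrArg Subtype.val (hbij.1 ((hι ⟨x, hx'⟩).symm.trans (e.trans (hι ⟨y, hy'⟩))))
  · intro z _
    obtain ⟨x, rfl⟩ := hbij.2 z
    exact ⟨x, x.2, hι x⟩
  · intro d hd e he
    exact ((hι (⟨d, hd⟩ * ⟨e, he⟩ : A)).trans (hadd _ _)).trans
      (by rw [← hι ⟨d, hd⟩, ← hι ⟨e, he⟩])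
  · intro x hx
    obtain ⟨y, rfl⟩ := hbij.2 x
    have hy : y ≠ 1 := fun e => hx (e ▸ hzero)
    obtain ⟨n, hn⟩ := hctr d₀ hd₀ _ (hA y hy)
    refine ⟨c ^ n, Y.pow_mem hc n, (stabilizer G a).pow_mem hca n,
      (stabilizer G b).pow_mem hcb n, fun d hd => ?_⟩
    have h1 := hmul _ (hLpow n) ⟨d, hmemA hd⟩
    rw [← hι, ← hι ⟨d, hmemA hd⟩, show ρ (c' ^ n) a₀ = y from Subtype.ext hn] at h1
    exact h1
  intro g hg
  set g₁ : auto Y a := ⟨g, hg⟩
  -- `g` normalises the torus on `A`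
  have hnorm : ∀ k ∈ L, ρ g₁ * k * (ρ g₁)⁻¹ ∈ L := by
    suffices hc1 : ρ g₁ * ρ c' * (ρ g₁)⁻¹ ∈ L by
      rintro _ ⟨k, hk, rfl⟩
      obtain ⟨m, rfl⟩ := Subgroup.mem_zpowers_iff.1 hk
      rw [map_zpow, ← conj_zpow]
      exact L.zpow_mem hc1 m
    have hgb : g • b ∈ orbit Y a := auto_smul_mem hg hb
    have hgba : g • b ≠ a := fun e => hba (smul_left_cancel g (e.trans hg.2.symm))
    obtain ⟨y, hy, hya, hyb, hyc⟩ := hY.exists_translation hP h2 hcomm hb hgb hba hgba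
    set y₁ : auto Y a := ⟨y, mem_auto hy hya⟩
    set g₂ := y₁⁻¹ * g₁ with hg₂
    have hρy : ρ y₁ = 1 := MulEquiv.ext fun x => Subtype.ext (by
      rw [hρ, MulAut.one_apply]
      rcases x.2 with e | hx
      · simp [show (x : G) = 1 from e]
      · exact mul_inv_eq_iff_eq_mul.2 (hyc _ hx))
    have hρg : ρ g₂ = ρ g₁ := by rw [hg₂, map_mul, map_inv, hρy, inv_one, one_mul]
    have hg2b : (g₂ : G) • b = b := by
      show (y⁻¹ * g) • b = b
      rw [mul_smul, inv_smul_eq_iff, hyb]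
    obtain ⟨n, hn⟩ := hcact ((g₂ : G) * c * (g₂ : G)⁻¹)
      ((Subgroup.mem_normalizer_iff.1 g₂.2.1 _).1 hc) ((g₂ * c' * g₂⁻¹ : auto Y a).2.2)
      (by rw [mul_smul, mul_smul, inv_smul_eq_iff.2 hg2b.symm, hcb, hg2b])
    rw [show ρ g₁ * ρ c' * (ρ g₁)⁻¹ = ρ (c' ^ n) from ?_]
    · exact hLpow n
    rw [← hρg, ← map_inv, ← map_mul, ← map_mul]
    refine MulEquiv.ext fun x => Subtype.ext ?_
    rw [hρ, hρ]
    rcases x.2 with e | hx
    · simp [show (x : G) = 1 from e]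
    · exact hn _ hx
  set x₀ := ι₀ (ρ g₁ a₀) with hx₀
  have hx₀0 : x₀ ≠ 0 := hι0 _ fun e => ha₀ ((ρ g₁).injective (e.trans (map_one _).symm))
  set e₀ : A ≃ GaloisField 2 i := Equiv.ofBijective ι₀ hbij
  let f : GaloisField 2 i → GaloisField 2 i := fun w => x₀⁻¹ * ι₀ (ρ g₁ (e₀.symm w))
  have he₀ : ∀ w, ι₀ (e₀.symm w) = w := fun w => e₀.apply_symm_apply w
  have hfadd : ∀ w w', f (w + w') = f w + f w' := fun w w' => by
    have : e₀.symm (w + w') = e₀.symm w * e₀.symm w' :=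
      hbij.1 (by rw [hadd, he₀, he₀, he₀])
    show x₀⁻¹ * ι₀ (ρ g₁ (e₀.symm (w + w'))) = _
    rw [this, map_mul, hadd, mul_add]
  have hfmul : ∀ w w', f (w * w') = f w * f w' := by
    intro w w'
    show x₀⁻¹ * ι₀ (ρ g₁ (e₀.symm (w * w'))) = _
    by_cases hw : e₀.symm w = 1
    · have : w = 0 := by rw [← he₀ w, hw, hzero]
      subst this
      show _ = x₀⁻¹ * ι₀ (ρ g₁ (e₀.symm 0)) * f w'
      rw [zero_mul, hw, map_one, hzero, mul_zero, zero_mul]
    obtain ⟨k, hk, hkw⟩ := hLtrans a₀ _ ha₀ hw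
    have h1 : e₀.symm (w * w') = k (e₀.symm w') := hbij.1 (by rw [he₀, hmul k hk, hkw, he₀, he₀])
    have h3 : ∀ z, ρ g₁ (k z) = (ρ g₁ * k * (ρ g₁)⁻¹) (ρ g₁ z) := fun z => by
      rw [MulAut.mul_apply, MulAut.mul_apply, MulAut.inv_apply_self]
    show _ = x₀⁻¹ * ι₀ (ρ g₁ (e₀.symm w)) * (x₀⁻¹ * ι₀ (ρ g₁ (e₀.symm w')))
    rw [h1, ← hkw, h3, h3, hmul _ (hnorm k hk), hmul _ (hnorm k hk) (ρ g₁ a₀), ← hx₀]
    field_simp
  let φ : GaloisField 2 i →+* GaloisField 2 i :=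
    { toFun := f
      map_one' := by
        show x₀⁻¹ * ι₀ (ρ g₁ (e₀.symm 1)) = 1
        rw [show e₀.symm 1 = a₀ from hbij.1 (by rw [he₀, hone]), ← hx₀, inv_mul_cancel₀ hx₀0]
      map_mul' := hfmul
      map_zero' := by
        show x₀⁻¹ * ι₀ (ρ g₁ (e₀.symm 0)) = 0
        rw [show e₀.symm 0 = 1 from hbij.1 (by rw [he₀, hzero]), map_one, hzero, mul_zero]
      map_add' := hfadd }
  refine ⟨RingEquiv.ofBijective φ (Finite.injective_iff_bijective.1 φ.injective), x₀, hx₀0,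
    fun d hd => ?_⟩
  show ι (g * d * g⁻¹) = x₀ * (x₀⁻¹ * ι₀ (ρ g₁ (e₀.symm (ι d))))
  rw [mul_inv_cancel_left₀ hx₀0, hι ⟨d, hmemA hd⟩,
    show e₀.symm (ι₀ ⟨d, hmemA hd⟩) = ⟨d, hmemA hd⟩ from e₀.symm_apply_apply _]
  exact hι (ρ g₁ ⟨d, hmemA hd⟩)

end Loc

end Cfsg.Agent.Lib.Crit5.Shape
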