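import Cfsg.Agent.Lib.Crit5.Shape.Torus
import Cfsg.Agent.Lib.SzSylow.Aut

/-!
# The single fixed point criterion, section S: the translation group of a model

`Z(Q)` consists of the involutions with `1` and contains squares and commutators; in `Sz(q)` two
commuting elements outside the centre agree modulo it and squaring is injective modulo it; in
`U3(q)` commuting elements are proportional modulo the centre, by the torus.
-/

set_option autoImplicit false
set_option linter.style.haveILetI false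

namespace Cfsg.Agent.Lib.Crit5.Shape

open MulAction Cfsg.Agent.Lib.RankOne.Basic Cfsg.Agent.Lib.RankOne.Involution
open Cfsg.Agent.Lib.BenderSuzuki

universe u v

variable {G : Type u} {Ω : Type v} [Group G] [MulAction G Ω] [Finite G] {a : Ω} {t : G}
  {Q : Subgroup G} (h : Model G Ω a t Q)
include h

namespace Model

theorem sq_mul_self {x y : G} (hx : x ∈ Q) (hy : y ∈ Q) :
    x * x * (x * x) = 1 ∧ x⁻¹ * y⁻¹ * x * y * (x⁻¹ * y⁻¹ * x * y) = 1 := by
  by_cases hc : IsMulCommutative Q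
  · have hq := Abelian.Main.propAbelian G Ω a t Q h.hyp h.isPGroup hc
    have hinj : Function.Injective (fun z : {z : Q // z * z = 1} => (z : Q)) := Subtype.val_injective
    have hall : ∀ z : Q, z * z = 1 := fun z => by
      obtain ⟨w, hw⟩ := ((Nat.bijective_iff_injective_and_card _).2
        ⟨hinj, by rw [hq, qNum_eq_card h.hyp]⟩).2 z
      exact hw ▸ w.2
    refine ⟨?_, congrArg Subtype.val
      (hall ((⟨x, hx⟩ : Q)⁻¹ * (⟨y, hy⟩ : Q)⁻¹ * ⟨x, hx⟩ * ⟨y, hy⟩))⟩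
    exact congrArg Subtype.val (hall (⟨x, hx⟩ * ⟨x, hx⟩))
  · obtain ⟨hiff, hsq, hcom, -⟩ := nonabelian_structure h.hyp h.isPGroup hc
    exact ⟨congrArg Subtype.val ((hiff _).2 (hsq ⟨x, hx⟩)),
      congrArg Subtype.val ((hiff _).2 (hcom ⟨x, hx⟩ ⟨y, hy⟩))⟩

/-- Outside `L2(q)` every involution is a square. -/
theorem exists_sqrt (hne : Nat.card Q ≠ qNum G a) {s : G} (hs : s ∈ invs G a) :
    ∃ x ∈ Q, x * x = s := by
  obtain ⟨x₀, hx₀, hx2⟩ : ∃ x₀ ∈ Q, x₀ * x₀ ≠ 1 := by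
    by_contra hall
    push Not at hall
    refine hne ((qNum_eq_card h.hyp).trans (Nat.card_congr ?_)).symm
    exact Equiv.subtypeUnivEquiv fun z : Q => Subtype.ext (hall z z.2)
  have hi : x₀ * x₀ ∈ invs G a :=
    ((sq_one_iff h.hyp (Q.mul_mem hx₀ hx₀)).1 (h.sq_mul_self hx₀ hx₀).1).resolve_left hx2
  obtain ⟨k, ⟨hk, hks⟩, -⟩ := existsUnique_K h.hyp.setup hi hs
  refine ⟨k * x₀ * k⁻¹, twoStab_norm h.hyp.setup hk.1 hx₀, ?_⟩
  rw [← hks]
  group

/-- Coordinates of `Q` for the Suzuki group. -/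
theorem exists_szCoords (he : Nat.card Q = qNum G a ^ 2) :
    ∃ (F : Type) (_ : Field F) (_ : Fintype F) (m : ℕ),
      LieTwisted.Suzuki.IsSzField F m ∧ 1 ≤ m ∧ Nonempty (SzSylow.Coords F m Q) := by
  have h4 := h.four_le
  rcases h.cases_top with ⟨hc, -⟩ | ⟨-, -, hiso⟩ | ⟨hc, -⟩
  · rw [he] at hc; nlinarith
  swap
  · rw [he] at hc; nlinarith [Nat.mul_le_mul h4 h4]
  obtain ⟨F, i1, i2, m, hm, hF, ⟨e⟩⟩ := hiso
  haveI : Fact (Nat.Prime 2) := ⟨Nat.prime_two⟩
  have hidx : ¬ 2 ∣ Q.index := by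
    have hS := h.hyp.setup
    haveI := finiteOmega hS
    have hQ : 0 < Nat.card Q := Nat.card_pos
    have hodd : Odd ((Nat.card Q + 1) * Nat.card (twoStab G a t)) := by
      refine Odd.mul ?_ hS.odd_card
      exact Even.add_one hS.even_card
    have hidx : Q.index = (Nat.card Q + 1) * Nat.card (twoStab G a t) := by
      have h1 := Q.card_mul_index
      have h2 : Nat.card G = (Nat.card Q + 1) * (Nat.card Q * Nat.card (twoStab G a t)) :=
        (card_group hS).trans (by ring)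
      refine Nat.eq_of_mul_eq_mul_left hQ ?_
      rw [h1, h2]; ring
    rw [hidx]
    exact hodd.not_two_dvd_nat
  let e' : G ≃* ↥(Cfsg.Lie.Sz F (2 ^ (m + 1))) := Subgroup.topEquiv.symm.trans e
  haveI : Finite ↥(Cfsg.Lie.Sz F (2 ^ (m + 1))) := Finite.of_equiv G e'.toEquiv
  have hidx' : ¬ 2 ∣ (Q.map e'.toMonoidHom).index := by
    rwa [Subgroup.index_map_of_bijective (f := e'.toMonoidHom) e'.bijective]
  obtain ⟨c⟩ := SzSylow.exists_coords_Sz ⟨hF⟩ hm ((h.isPGroup.map e'.toMonoidHom).toSylow hidx')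
  exact ⟨F, i1, i2, m, ⟨hF⟩, hm,
    ⟨c.trans (Q.equivMapOfInjective e'.toMonoidHom e'.injective)⟩⟩

/-- In `Sz(q)` commuting elements outside the centre agree modulo it. -/
theorem sz_commute (he : Nat.card Q = qNum G a ^ 2) {x y : G} (hx : x ∈ Q) (hy : y ∈ Q)
    (hxy : x * y = y * x) :
    x * x = 1 ∨ y * y = 1 ∨ x⁻¹ * y * (x⁻¹ * y) = 1 := by
  obtain ⟨F, i1, i2, m, hF, hm, ⟨c⟩⟩ := h.exists_szCoords he
  set X : Q := ⟨x, hx⟩
  set Y : Q := ⟨y, hy⟩
  have e := (c.comm_iff hF X Y).1 (Subtype.ext hxy)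
  by_cases hax : c.a X = 0
  · exact Or.inl (congrArg Subtype.val ((c.sq_eq_one_iff hF).2 hax))
  by_cases hay : c.a Y = 0
  · exact Or.inr (Or.inl (congrArg Subtype.val ((c.sq_eq_one_iff hF).2 hay)))
  have heq : c.a Y = c.a X := by
    have hx' : LieTwisted.Suzuki.sg m (c.a X) ≠ 0 := mt LieTwisted.Suzuki.sg_eq_zero.1 hax
    have hr : LieTwisted.Suzuki.sg m (c.a Y / c.a X) = c.a Y / c.a X := by
      rw [div_eq_mul_inv, LieTwisted.Suzuki.sg_mul, LieTwisted.Suzuki.sg_inv]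
      field_simp
      linear_combination -e
    have h1 := hF.sg_sg (c.a Y / c.a X)
    rw [hr, hr, sq] at h1
    exact eq_of_div_eq_one (mul_left_cancel₀ (div_ne_zero hay hax)
      (by rw [mul_one]; exact h1.symm))
  refine Or.inr (Or.inr (congrArg Subtype.val ((c.sq_eq_one_iff hF).2
    (show c.a (X⁻¹ * Y) = 0 from ?_))))
  have h2 := c.a_mul X (X⁻¹ * Y)
  rw [mul_inv_cancel_left, heq] at h2
  exact left_eq_add.1 h2

/-- In `Sz(q)` squaring is injective modulo the centre. -/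
theorem sz_sq_inj (he : Nat.card Q = qNum G a ^ 2) {x y : G} (hx : x ∈ Q) (hy : y ∈ Q)
    (hxy : x * x = y * y) : x⁻¹ * y * (x⁻¹ * y) = 1 := by
  obtain ⟨F, i1, i2, m, hF, hm, ⟨c⟩⟩ := h.exists_szCoords he
  set X : Q := ⟨x, hx⟩
  set Y : Q := ⟨y, hy⟩
  have e : c.b (X * X) = c.b (Y * Y) := congrArg c.b (Subtype.ext hxy)
  rw [c.b_sq hF, c.b_sq hF] at e
  have heq := SzSylow.norm_injective hF e
  refine congrArg Subtype.val ((c.sq_eq_one_iff hF).2 (show c.a (X⁻¹ * Y) = 0 from ?_))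
  have h2 := c.a_mul X (X⁻¹ * Y)
  rw [mul_inv_cancel_left, ← heq] at h2
  exact left_eq_add.1 h2

/-- In `U3(q)` an element commuting with one outside the centre is, modulo the centre, trivial or
its conjugate by the torus. -/
theorem unitary_commute (he : Nat.card Q = qNum G a ^ 3) {x y : G} (hx : x ∈ Q) (hy : y ∈ Q)
    (hxy : x * y = y * x) (hx2 : x * x ≠ 1) :
    y * y = 1 ∨ ∃ k ∈ kSet a t, (k * x * k⁻¹)⁻¹ * y * ((k * x * k⁻¹)⁻¹ * y) = 1 := by
  have hS := h.hyp.setup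
  obtain ⟨F, iF, iFt, c, hF, hC⟩ :=
    Coords.propCoords G Ω a t Q h.hyp h.isPGroup he (h.card_ker he).1
  obtain ⟨n, hn, hq⟩ := h.qNum_pow
  set q := qNum G a with hqdef
  haveI hchar : CharP F 2 := by
    refine CharTwo.of_one_ne_zero_of_two_eq_zero one_ne_zero ?_
    have h0 : ((Fintype.card F : ℕ) : F) = 0 := FiniteField.cast_card_eq_zero F
    rw [hF, hq, ← pow_mul, Nat.cast_pow] at h0
    exact_mod_cast eq_zero_of_pow_eq_zero h0
  have hq0 : q ≠ 0 := by rw [hq]; positivity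
  have hmul : ∀ x ∈ Q, ∀ y ∈ Q, (c (x * y)).1 = (c x).1 + (c y).1 := fun x hx y hy =>
    congrArg Prod.fst (hC.mul x hx y hy)
  have hone : (c 1).1 = 0 := by
    have := hmul 1 Q.one_mem 1 Q.one_mem
    rwa [one_mul, CharTwo.add_self_eq_zero] at this
  have hsnd : ∀ x ∈ Q, (c (x * x)).2 = (c x).1 ^ q * (c x).1 := by
    intro x hx
    rw [congrArg Prod.snd (hC.mul x hx x hx)]
    show (c x).2 + (c x).2 + (c x).1 ^ q * (c x).1 = _
    rw [CharTwo.add_self_eq_zero, zero_add]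
  have hzero : ∀ w ∈ Q, (c w).1 = 0 ↔ w * w = 1 := by
    intro w hw
    have h2 := hsnd 1 Q.one_mem
    rw [one_mul, hone, mul_zero] at h2
    constructor
    · intro e
      refine hC.bijOn.injOn (Q.mul_mem hw hw) Q.one_mem (Prod.ext ?_ ?_)
      · rw [hmul w hw w hw, CharTwo.add_self_eq_zero, hone]
      · rw [hsnd w hw, e, mul_zero, h2]
    · intro e
      have h1 := hsnd w hw
      rw [e, h2, ← pow_succ, eq_comm] at h1
      exact eq_zero_of_pow_eq_zero h1
  have hx0 : (c x).1 ≠ 0 := mt (hzero x hx).1 hx2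
  refine or_iff_not_imp_left.2 fun hy2 => ?_
  have hy0 : (c y).1 ≠ 0 := mt (hzero y hy).1 hy2
  have e : (c x).1 ^ q * (c y).1 = (c y).1 ^ q * (c x).1 := by
    have h1 := congrArg Prod.snd (hC.mul x hx y hy)
    rw [hxy, congrArg Prod.snd (hC.mul y hy x hx)] at h1
    linear_combination -h1
  set l := (c y).1 / (c x).1 with hl
  have hlq : l ^ q = l := by
    rw [hl, div_pow, div_eq_div_iff (pow_ne_zero q hx0) hx0]
    linear_combination -e
  obtain ⟨k, hk, hk'⟩ := hC.torus l hlq (div_ne_zero hy0 hx0)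
  refine ⟨k, hk, ?_⟩
  have hkQ : k * x * k⁻¹ ∈ Q := twoStab_norm hS hk.1 hx
  refine (hzero _ (Q.mul_mem (Q.inv_mem hkQ) hy)).1 ?_
  have h2 := hmul _ hkQ _ (Q.mul_mem (Q.inv_mem hkQ) hy)
  rw [mul_inv_cancel_left, show (c (k * x * k⁻¹)).1 = l * (c x).1 from congrArg Prod.fst (hk' x hx),
    hl, div_mul_cancel₀ _ hx0] at h2
  exact left_eq_add.1 h2

end Model

end Cfsg.Agent.Lib.Crit5.Shape
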