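import Cfsg.Agent.Lib.Crit5.Shape.TwoModel

/-!
# The single fixed point criterion, section S: a translation 2-group in `Y`

With commuting members at `a` there is a 2-subgroup `P` of `Y` fixing `a`, regular on the other
points, with the members at `a` and `1` as centre; `Y_a` acts on the points through the normaliser
of `P`.  For `e = 2` it is a Suzuki 2-group, for `e = 3` a unitary one.
-/

set_option autoImplicit false
set_option linter.style.haveILetI false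

namespace Cfsg.Agent.Lib.Crit5.Shape

open MulAction Cfsg.Agent.Lib.Involutions.Basic
open Cfsg.Agent.Lib.RankOne.Basic
open Cfsg.Agent.Lib.Crit8 (Pre memAt)
open Cfsg.Agent.Lib.BenderSuzuki (invs qNum kSet)

universe u

variable {G Ω : Type u} [Group G] [MulAction G Ω]

/-- A translation group of `Y` at `a`. -/
structure Trans (D : Set G) (Y : Subgroup G) (a : Ω) (P : Subgroup G) : Prop where
  le : P ≤ Y
  fix : ∀ x ∈ P, x • a = a
  two : IsPGroup 2 P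
  regular : ∀ p ∈ orbit Y a, ∀ p' ∈ orbit Y a, p ≠ a → p' ≠ a → ∃! x, x ∈ P ∧ x • p = p'
  mem : ∀ d ∈ memIn D Y a, d ∈ P
  sq_one : ∀ x ∈ P, x * x = 1 → x = 1 ∨ x ∈ memIn D Y a
  central : ∀ x ∈ P, ∀ d ∈ memIn D Y a, Commute x d
  sq_mem : ∀ x ∈ P, x * x * (x * x) = 1
  comm_mem : ∀ x ∈ P, ∀ y ∈ P, x⁻¹ * y⁻¹ * x * y * (x⁻¹ * y⁻¹ * x * y) = 1
  card : Nat.card P + 1 = Nat.card (orbit Y a)
  lift : ∀ y ∈ Y, y • a = a → ∃ z ∈ Y, z • a = a ∧ z ∈ Subgroup.normalizer (P : Set G) ∧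
    SameOn Y a z y
  sqrt : Nat.card P ≠ qOf Y a → ∀ d ∈ memIn D Y a, ∃ x ∈ P, x * x = d
  sz_commute : Nat.card P = qOf Y a ^ 2 → ∀ x ∈ P, ∀ y ∈ P, Commute x y →
    x * x = 1 ∨ y * y = 1 ∨ x⁻¹ * y * (x⁻¹ * y) = 1
  sz_sq_inj : Nat.card P = qOf Y a ^ 2 → ∀ x ∈ P, ∀ y ∈ P, x * x = y * y →
    x⁻¹ * y * (x⁻¹ * y) = 1
  unitary_commute : Nat.card P = qOf Y a ^ 3 → ∀ b ∈ orbit Y a, b ≠ a → ∀ x ∈ P, ∀ y ∈ P,
    Commute x y → x * x ≠ 1 → y * y = 1 ∨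
      ∃ c ∈ Y, c • a = a ∧ c • b = b ∧ c ∈ Subgroup.normalizer (P : Set G) ∧
        (c * x * c⁻¹)⁻¹ * y * ((c * x * c⁻¹)⁻¹ * y) = 1

namespace Loc

variable [Finite G] {D : Set G} {Y : Subgroup G} {a : Ω} (hP : Pre G Ω D) (hY : Loc D Y a)
include hY hP

/-- A translation group exists. -/
theorem exists_trans (h2 : Four Y)
    (hcomm : ∀ d ∈ memIn D Y a, ∀ e ∈ memIn D Y a, Commute d e) :
    ∃ P : Subgroup G, Trans D Y a P := by
  classical
  haveI : Fact (Nat.Prime 2) := ⟨Nat.prime_two⟩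
  obtain ⟨t, Q, h⟩ := hY.exists_model' hP h2
  have hS := h.hyp.setup
  set π := toImg Y (orbit Y a)
  set R := Q.comap π with hR
  let ψ : R →* Q := π.subgroupComap Q
  have hψ : Function.Surjective ψ := fun x => by
    obtain ⟨y, hy⟩ := toImg_surjective (x : img Y (orbit Y a))
    exact ⟨⟨y, show π y ∈ Q by rw [hy]; exact x.2⟩, Subtype.ext hy⟩
  obtain ⟨S⟩ : Nonempty (Sylow 2 R) := inferInstance
  have hker : ∀ r : R, r ∈ S → π r.1 = 1 → r = 1 := by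
    intro r hr h1
    have hodd : Odd (orderOf r.1) := odd_orderOf_of_toImg hY.se' h1
    obtain ⟨i, hi⟩ := S.2 ⟨r, hr⟩
    have : r.1 ^ 2 ^ i = 1 := congrArg (fun z : (S : Subgroup R) => ((z : R) : Y)) hi
    exact Subtype.ext (orderOf_eq_one_iff.1 (Nat.Coprime.eq_one_of_dvd
      ((Nat.coprime_two_right.2 hodd).pow_right i) (orderOf_dvd_of_pow_eq_one this)))
  have htop : (S : Subgroup R).map ψ = ⊤ := by
    have h1 : ((S.mapSurjective hψ : Sylow 2 Q) : Subgroup Q) = ⊤ :=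
      ((S.mapSurjective hψ).is_maximal' (h.isPGroup.to_subgroup ⊤) le_top).symm
    rwa [Sylow.coe_mapSurjective] at h1
  set P : Subgroup G := (((S : Subgroup R).map R.subtype).map Y.subtype) with hPdef
  have hmemP : ∀ x : G, x ∈ P ↔ ∃ r : R, r ∈ S ∧ ((r : Y) : G) = x := by
    intro x
    constructor
    · rintro ⟨_, ⟨r, hr, rfl⟩, rfl⟩; exact ⟨r, hr, rfl⟩
    · rintro ⟨r, hr, rfl⟩; exact ⟨r.1, ⟨r, hr, rfl⟩, rfl⟩
  have hPY : P ≤ Y := Subgroup.map_subtype_le _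
  have hfix : ∀ r : R, ((r : Y) : G) • a = a := fun r =>
    congrArg Subtype.val (Q_fix hS (show π r.1 ∈ Q from r.2))
  have himg : ∀ {x : G} (hx : x ∈ P), π ⟨x, hPY hx⟩ ∈ Q := fun {x} hx => by
    obtain ⟨r, hr, rfl⟩ := (hmemP x).1 hx
    exact r.2
  have hinjP : ∀ {x y : G} (hx : x ∈ P) (hy : y ∈ P),
      π ⟨x, hPY hx⟩ = π ⟨y, hPY hy⟩ → x = y := by
    intro x y hx hy e
    obtain ⟨r, hr, rfl⟩ := (hmemP x).1 hx
    obtain ⟨r', hr', rfl⟩ := (hmemP y).1 hy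
    have h1 : π (r⁻¹ * r').1 = 1 := by
      show π ((r.1)⁻¹ * r'.1) = 1
      rw [map_mul, map_inv, inv_mul_eq_one]
      exact e
    rw [inv_mul_eq_one.1 (hker _ (mul_mem (inv_mem hr) hr') h1)]
  have hsurjP : ∀ v ∈ Q, ∃ (x : G) (hx : x ∈ P), π ⟨x, hPY hx⟩ = v := by
    intro v hv
    obtain ⟨r, hr, e⟩ := (htop.symm ▸ Subgroup.mem_top (⟨v, hv⟩ : Q) :
      (⟨v, hv⟩ : Q) ∈ (S : Subgroup R).map ψ)
    exact ⟨_, (hmemP _).2 ⟨r, hr, rfl⟩, congrArg Subtype.val e⟩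
  have hcard : Nat.card P = Nat.card Q :=
    Nat.card_eq_of_bijective (fun x : P => (⟨_, himg x.2⟩ : Q))
      ⟨fun x y e => Subtype.ext (hinjP x.2 y.2 (congrArg Subtype.val e)),
        fun v => by
          obtain ⟨x, hx, e⟩ := hsurjP v v.2
          exact ⟨⟨x, hx⟩, Subtype.ext e⟩⟩
  -- transfer of equations from the image
  have hsq : ∀ {x : G} (hx : x ∈ P), π ⟨x, hPY hx⟩ * π ⟨x, hPY hx⟩ = 1 → x * x = 1 := by
    intro x hx e
    refine hinjP (P.mul_mem hx hx) P.one_mem (((map_mul π ⟨x, hPY hx⟩ ⟨x, hPY hx⟩).trans e).trans ?_)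
    exact (map_one π).symm
  have hmem : ∀ d ∈ memIn D Y a, d ∈ P := by
    intro d hd
    set E := eSub hP hY hcomm
    have hER : E ≤ R.map Y.subtype := by
      rintro x (rfl | hx)
      · exact one_mem _
      · exact ⟨⟨x, hx.2⟩, BenderSuzuki.mem_Q_of_invs h.hyp (hY.invs_of_memIn hP hx), rfl⟩
    set E' := E.comap (Y.subtype.comp R.subtype)
    haveI : E'.Normal := ⟨fun e he r => by
      show ((r : Y) : G) * ((e : Y) : G) * ((r : Y) : G)⁻¹ ∈ E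
      rcases (he : ((e : Y) : G) ∈ E) with h1 | h1
      · exact Or.inl (by rw [show ((e : Y) : G) = 1 from h1]; simp)
      · exact Or.inr (hY.conj_memIn hP (mem_auto r.1.2 (hfix r)) h1)⟩
    have hE'2 : IsPGroup 2 E' := fun e => ⟨1, Subtype.ext (Subtype.ext (Subtype.ext (by
      show ((e.1 : Y) : G) ^ 2 ^ 1 = 1
      rw [pow_one, sq]
      rcases (e.2 : ((e.1 : Y) : G) ∈ E) with h1 | h1
      · rw [show ((e.1 : Y) : G) = 1 from h1, one_mul]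
      · exact invol_mul_self (hP.invol _ h1.1.1))))⟩
    obtain ⟨y, hy, e⟩ := hER (Or.inr hd : d ∈ E)
    exact (hmemP d).2 ⟨⟨y, hy⟩, hE'2.le_sylow_of_normal S (show (y : G) ∈ E from by rw [show (y : G) = d from e]; exact Or.inr hd), e⟩
  have hlift : ∀ y ∈ Y, y • a = a → ∃ z ∈ Y, z • a = a ∧ z ∈ Subgroup.normalizer (P : Set G) ∧
      SameOn Y a z y := by
    intro y hy hya
    set y₀ : Y := ⟨y, hy⟩
    -- conjugation by `y` on `R`
    have hRc : ∀ r ∈ R, y₀ * r * y₀⁻¹ ∈ R := fun r hr => by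
      show π (y₀ * r * y₀⁻¹) ∈ Q
      rw [map_mul, map_mul, map_inv]
      exact hS.conj_mem (π y₀) (Subtype.ext hya) _ hr
    set f : R →* R := MonoidHom.mk' (fun r => ⟨y₀ * r.1 * y₀⁻¹, hRc r.1 r.2⟩)
      fun r r' => Subtype.ext (by simp [mul_assoc])
    have hfb : Function.Bijective f := Finite.injective_iff_bijective.1 fun r r' e =>
      Subtype.ext (mul_left_cancel (mul_right_cancel (congrArg Subtype.val e)))
    set S' := S.mapSurjective hfb.2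
    obtain ⟨r, hr⟩ := exists_smul_eq R S' S
    obtain ⟨p, hpP, hpe⟩ := hsurjP (π r.1) r.2
    refine ⟨p⁻¹ * ((r : Y) : G) * y, Y.mul_mem (Y.mul_mem (Y.inv_mem (hPY hpP)) r.1.2) hy, ?_, ?_, ?_⟩
    · have hpa : p⁻¹ • a = a := by
        obtain ⟨s, -, rfl⟩ := (hmemP p).1 hpP
        rw [inv_smul_eq_iff, hfix s]
      rw [mul_smul, mul_smul, hya, hfix r, hpa]
    · rw [mul_assoc]
      refine Subgroup.mul_mem _ (Subgroup.le_normalizer (P.inv_mem hpP)) ?_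
      refine Subgroup.mem_normalizer_iff_map_conj_eq.2 ?_
      refine Subgroup.eq_of_le_of_card_ge ?_
        (le_of_eq (Subgroup.card_map_of_injective (MulAut.conj _).injective).symm)
      rintro _ ⟨x, hx, rfl⟩
      obtain ⟨s, hs, rfl⟩ := (hmemP x).1 hx
      have h1 : r * f s * r⁻¹ ∈ (S : Subgroup R) := by
        rw [← hr, Sylow.smul_def, Sylow.pointwise_smul_def, Subgroup.pointwise_smul_def]
        exact ⟨f s, ⟨s, hs, rfl⟩, rfl⟩
      refine (hmemP _).2 ⟨_, h1, ?_⟩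
      show ((r : Y) : G) * (y * ((s : Y) : G) * y⁻¹) * ((r : Y) : G)⁻¹ =
        ((r : Y) : G) * y * ((s : Y) : G) * (((r : Y) : G) * y)⁻¹
      group
    · refine (sameOn_iff (Y.mul_mem (Y.mul_mem (Y.inv_mem (hPY hpP)) r.1.2) hy) hy).2 ?_
      show π ((⟨p, hPY hpP⟩ : Y)⁻¹ * r.1 * y₀) = π y₀
      rw [map_mul, map_mul, map_inv, hpe, inv_mul_cancel, one_mul]
  have hcardP : Nat.card P + 1 = Nat.card (orbit Y a) := by rw [hcard, card_omega hS]
  refine ⟨P, ?_⟩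
  refine ⟨hPY, ?_, ?_, ?_, hmem, ?_, ?_, ?_, ?_, hcardP, hlift, ?_, ?_, ?_, ?_⟩
  · intro x hx
    obtain ⟨r, -, rfl⟩ := (hmemP x).1 hx
    exact hfix r
  · exact (S.2.map R.subtype).map Y.subtype
  · intro p hp p' hp' hpa hp'a
    obtain ⟨v, hv, hvp⟩ := Q_trans hS (c := (⟨p, hp⟩ : orbit Y a)) (d := ⟨p', hp'⟩)
      (fun e => hpa (congrArg Subtype.val e)) (fun e => hp'a (congrArg Subtype.val e))
    obtain ⟨x, hx, rfl⟩ := hsurjP v hv
    refine ⟨x, ⟨hx, congrArg Subtype.val hvp⟩, fun z hz => hinjP hz.1 hx ?_⟩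
    exact Q_smul_inj hS (himg hz.1) hv (c := (⟨p, hp⟩ : orbit Y a))
      (fun e => hpa (congrArg Subtype.val e)) ((Subtype.ext hz.2).trans hvp.symm)
  · intro x hx e
    refine or_iff_not_imp_left.2 fun h1 => ?_
    have h2' : orderOf x = 2 := invol_iff.2 ⟨e, h1⟩
    obtain ⟨r, -, rfl⟩ := (hmemP x).1 hx
    exact ⟨⟨hY.mem_D hP r.1.2 h2', hfix r⟩, r.1.2⟩
  · intro x hx d hd
    refine hinjP (P.mul_mem hx (hmem d hd)) (P.mul_mem (hmem d hd) hx) ?_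
    exact ((map_mul π ⟨x, hPY hx⟩ ⟨d, hd.2⟩).trans (h.invs_comm (hY.invs_of_memIn hP hd)
      (himg hx)).symm).trans (map_mul π ⟨d, hd.2⟩ ⟨x, hPY hx⟩).symm
  · intro x hx
    refine hsq (P.mul_mem hx hx) ?_
    rw [show (⟨x * x, hPY (P.mul_mem hx hx)⟩ : Y) = ⟨x, hPY hx⟩ * ⟨x, hPY hx⟩ from rfl, map_mul]
    exact (h.sq_mul_self (himg hx) (himg hx)).1
  · intro x hx y hy
    have hc := P.mul_mem (P.mul_mem (P.mul_mem (P.inv_mem hx) (P.inv_mem hy)) hx) hy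
    refine hsq hc ?_
    rw [show (⟨_, hPY hc⟩ : Y) = ⟨x, hPY hx⟩⁻¹ * ⟨y, hPY hy⟩⁻¹ * ⟨x, hPY hx⟩ * ⟨y, hPY hy⟩ from rfl,
      map_mul, map_mul, map_mul, map_inv, map_inv]
    exact (h.sq_mul_self (himg hx) (himg hy)).2
  · intro hne d hd
    obtain ⟨v, hv, hv2⟩ := h.exists_sqrt (fun e => hne (hcard.trans e)) (hY.invs_of_memIn hP hd)
    obtain ⟨x, hx, rfl⟩ := hsurjP v hv
    exact ⟨x, hx, hinjP (P.mul_mem hx hx) (hmem d hd)
      ((map_mul π ⟨x, hPY hx⟩ ⟨x, hPY hx⟩).trans hv2)⟩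
  · intro hc2 x hx y hy hxy
    have h1 := h.sz_commute (hcard.symm.trans hc2) (himg hx) (himg hy)
      (by rw [← map_mul, ← map_mul]; exact congrArg π (Subtype.ext hxy.eq))
    have hm := P.mul_mem (P.inv_mem hx) hy
    refine h1.imp (hsq hx) (Or.imp (hsq hy) fun e => hsq hm ?_)
    rw [show (⟨_, hPY hm⟩ : Y) = ⟨x, hPY hx⟩⁻¹ * ⟨y, hPY hy⟩ from rfl, map_mul, map_inv]
    exact e
  · intro hc2 x hx y hy hxy
    have h1 := h.sz_sq_inj (hcard.symm.trans hc2) (himg hx) (himg hy)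
      (by rw [← map_mul, ← map_mul]; exact congrArg π (Subtype.ext hxy))
    have hm := P.mul_mem (P.inv_mem hx) hy
    refine hsq hm ?_
    rw [show (⟨_, hPY hm⟩ : Y) = ⟨x, hPY hx⟩⁻¹ * ⟨y, hPY hy⟩ from rfl, map_mul, map_inv]
    exact h1
  · intro hc3 b hb hba x hx y hy hxy hx2
    have hxa : π ⟨x, hPY hx⟩ * π ⟨x, hPY hx⟩ ≠ 1 := fun e => hx2 (hsq hx e)
    obtain ⟨t', ht', hS'⟩ := exists_setup_at hS (b := (⟨b, hb⟩ : orbit Y a))
      fun e => hba (congrArg Subtype.val e)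
    have h' : Model (img Y (orbit Y a)) (orbit Y a) (pt Y a) t' Q :=
      ⟨⟨hS', h.hyp.faithful, h.hyp.twoRank⟩, h.gen⟩
    rcases h'.unitary_commute (hcard.symm.trans hc3) (himg hx) (himg hy)
      (by rw [← map_mul, ← map_mul]; exact congrArg π (Subtype.ext hxy.eq)) hxa with e | ⟨k, hk, e⟩
    · exact Or.inl (hsq hy e)
    right
    obtain ⟨y₁, rfl⟩ := toImg_surjective k
    obtain ⟨hka, hkb⟩ := mem_twoStab.1 hk.1
    rw [ht'] at hkb
    obtain ⟨z, hz, hza, hzN, hzs⟩ := hlift y₁ y₁.2 (congrArg Subtype.val hka)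
    have hzb : z • b = b := (hzs b hb).trans (congrArg Subtype.val hkb)
    refine ⟨z, hz, hza, hzb, hzN, ?_⟩
    have hzx := (Subgroup.mem_normalizer_iff.1 hzN x).1 hx
    have hm := P.mul_mem (P.inv_mem hzx) hy
    refine hsq hm ?_
    rw [show (⟨_, hPY hm⟩ : Y) = ((⟨z, hz⟩ : Y) * ⟨x, hPY hx⟩ * (⟨z, hz⟩ : Y)⁻¹)⁻¹ * ⟨y, hPY hy⟩
      from rfl, map_mul, map_inv, map_mul, map_mul, map_inv, (sameOn_iff hz y₁.2).1 hzs]
    exact e

end Loc

end Cfsg.Agent.Lib.Crit5.Shape
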