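import Cfsg.Agent.Lib.Crit5.Shape.Sym
import Cfsg.Agent.Lib.BenderSuzuki.Coords.Main

/-!
# The single fixed point criterion, section S: automorphisms in the unitary case

An automorphism fixing two points and the involutions at one of them acts on `Q / Z(Q) = GF(q²)` as
`x ↦ μ x` (odd order, free off the line of the two points) or `x ↦ μ x ^ q` (order two).
-/

set_option autoImplicit false

namespace Cfsg.Agent.Lib.Crit5.Shape

open MulAction Cfsg.Agent.Lib.RankOne.Basic Cfsg.Agent.Lib.RankOne.Involution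
open Cfsg.Agent.Lib.BenderSuzuki

universe u v

variable {G : Type u} {Ω : Type v} [Group G] [MulAction G Ω] [Finite G] {a : Ω} {t : G}
  {Q : Subgroup G}

theorem Model.ctx (h : Model G Ω a t Q) (he : Nat.card Q = qNum G a ^ 3) :
    Coords.Ctx G Ω a t Q :=
  ⟨h.hyp, h.isPGroup, he, (h.card_ker he).1⟩

namespace Fixer

variable {φ φ' : G ≃* G} {σ σ' : Equiv.Perm Ω}

/-- A symmetry trivial on `Q / Z(Q)` is trivial. -/
theorem eq_one_of_mod (f : Fixer a t φ σ) (h : Model G Ω a t Q) (he : Nat.card Q = qNum G a ^ 3)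
    (hmod : ∀ x ∈ Q, x⁻¹ * φ x ∈ Coords.zSub (h.ctx he)) : σ = 1 := by
  set hc := h.ctx he
  obtain ⟨v, hv, hv1⟩ := (Subgroup.bot_or_exists_ne_one _).resolve_left hc.ker
  have hS := h.hyp.setup
  have hz : ∀ z ∈ Coords.zSub hc, φ z = z := fun z hz =>
    f.map_invol h (Coords.zSub_le hc hz) (Coords.z_sq hc hz)
  have hφv : φ v = v := by
    set w := v⁻¹ * φ v with hwdef
    have hw : w ∈ vKer a t := (vKer a t).mul_mem ((vKer a t).inv_mem hv) (f.map_vKer h hv)
    have hwfix : ∀ x ∈ Q, w * x * w⁻¹ = x := by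
      intro x hx
      set x' := v * x * v⁻¹ with hx'def
      have hx' : x' ∈ Q := twoStab_norm hS hv.1 hx
      have h1 : φ x' = φ v * φ x * (φ v)⁻¹ := by rw [hx'def, map_mul, map_mul, map_inv]
      set z := x⁻¹ * φ x with hzdef
      set z' := x'⁻¹ * φ x' with hz'def
      have hzm : z ∈ Coords.zSub hc := hmod x hx
      have hz'm : z' ∈ Coords.zSub hc := hmod x' hx'
      have h2 : φ v * x * (φ v)⁻¹ = x' * (z' * z) := by
        have e1 : φ v * z * (φ v)⁻¹ = z := by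
          rw [← hz z hzm, ← map_inv, ← map_mul, ← map_mul, Coords.ker_z hc hv hzm]
        calc φ v * x * (φ v)⁻¹
            = (φ v * φ x * (φ v)⁻¹) * (φ v * z * (φ v)⁻¹)⁻¹ := by rw [hzdef]; group
          _ = φ x' * z⁻¹ := by rw [← h1, e1]
          _ = x' * (z' * z) := by rw [hz'def, Coords.z_inv hc hzm]; group
      have h3 : w * x * w⁻¹ = x * (z' * z) := by
        have e2 : v⁻¹ * (z' * z) * v = z' * z := by
          have := Coords.ker_z hc ((vKer a t).inv_mem hv) ((Coords.zSub hc).mul_mem hz'm hzm)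
          rwa [inv_inv] at this
        calc w * x * w⁻¹ = v⁻¹ * (φ v * x * (φ v)⁻¹) * v := by rw [hwdef]; group
          _ = (v⁻¹ * x' * v) * (v⁻¹ * (z' * z) * v) := by rw [h2]; group
          _ = x * (z' * z) := by rw [e2, hx'def]; group
      rw [h3, Coords.ker_trick hc hw ((Coords.zSub hc).mul_mem hz'm hzm) h3, mul_one]
    have := Coords.ker_eq_one hc hw hwfix
    rw [hwdef, inv_mul_eq_one] at this
    exact this.symm
  refine f.eq_one_of_map_Q h fun x hx => ?_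
  set c := x⁻¹ * φ x with hcdef
  have hcz : c ∈ Coords.zSub hc := hmod x hx
  have hcx : Commute c x := Coords.z_comm hc hcz hx
  have hcv : Commute c v := (mul_inv_eq_iff_eq_mul.1 (Coords.ker_z hc hv hcz)).symm
  have hxQ : ∀ j : ℕ, (x * v) ^ j * (v ^ j)⁻¹ ∈ Q := by
    intro j
    induction j with
    | zero => simp [Q.one_mem]
    | succ j ih =>
      rw [show (x * v) ^ (j + 1) * (v ^ (j + 1))⁻¹ =
          ((x * v) ^ j * (v ^ j)⁻¹) * (v ^ j * x * (v ^ j)⁻¹) by rw [pow_succ, pow_succ]; group]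
      exact Q.mul_mem ih (twoStab_norm hS ((twoStab G a t).pow_mem hv.1 j) hx)
  set y := (x * v) ^ orderOf v with hydef
  have hy : y ∈ Q := by
    have := hxQ (orderOf v)
    rwa [pow_orderOf_eq_one, inv_one, mul_one] at this
  have hyz : y ∈ Coords.zSub hc := by
    refine Coords.ker_fixed_mem hc hv hv1 hy ?_
    have e1 : v * y * v⁻¹ = x⁻¹ * y * x := by
      calc v * y * v⁻¹ = x⁻¹ * ((x * v) * (x * v) ^ orderOf v) * v⁻¹ := by
            rw [hydef]; generalize (x * v) ^ orderOf v = w; group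
        _ = x⁻¹ * ((x * v) ^ orderOf v * (x * v)) * v⁻¹ := by
          rw [((Commute.refl (x * v)).pow_right _).eq]
        _ = x⁻¹ * y * x := by rw [hydef]; group
    have e2 : v * y * v⁻¹ = y * (y⁻¹ * x⁻¹ * y * x) := by rw [e1]; group
    rwa [Coords.ker_trick hc hv (Coords.q_comm hc hy hx) e2, mul_one] at e2
  have h1 : φ y = c ^ orderOf v * y := by
    rw [hydef, map_pow, map_mul, hφv, show φ x = c * x by rw [hcx.eq, hcdef]; group, mul_assoc,
      (hcx.mul_right hcv).mul_pow]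
  rw [hz y hyz, eq_comm, mul_eq_right] at h1
  obtain ⟨j, hj⟩ := Coords.ker_orderOf_odd hc hv
  rw [hj, pow_succ, pow_mul, sq, Coords.z_sq hc hcz, one_pow, one_mul] at h1
  rw [hcdef, inv_mul_eq_one] at h1
  exact h1.symm

/-- A symmetry acts on the first coordinate of `Q` as a scalar of norm one, possibly after the
involutory field automorphism. -/
theorem classify (h : Model G Ω a t Q) (he : Nat.card Q = qNum G a ^ 3) :
    ∃ (F : Type) (_ : Field F) (_ : CharP F 2) (θ : G → F),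
      (∀ x ∈ Q, (θ x = 0 ↔ x ∈ Coords.zSub (h.ctx he))) ∧
      (∀ x ∈ Q, ∀ y ∈ Q, θ (x * y) = θ x + θ y) ∧
      (∀ α : F, ∃ x ∈ Q, θ x = α) ∧
      (∀ α : F, α ^ qNum G a ^ 2 = α) ∧
      ∀ {φ : G ≃* G} {σ : Equiv.Perm Ω}, Fixer a t φ σ → ∃ μ : F, μ ^ (qNum G a + 1) = 1 ∧
        ((∀ x ∈ Q, θ (φ x) = μ * θ x) ∨ ∀ x ∈ Q, θ (φ x) = μ * θ x ^ qNum G a) := by
  classical
  set hc := h.ctx he
  obtain ⟨F, iF, iFt, c, hF, hC⟩ := Coords.propCoords G Ω a t Q h.hyp h.isPGroup he hc.ker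
  obtain ⟨n, hn, hq⟩ := h.qNum_pow
  set q := qNum G a with hqdef
  have hchar : CharP F 2 := by
    refine CharTwo.of_one_ne_zero_of_two_eq_zero one_ne_zero ?_
    have h0 : ((Fintype.card F : ℕ) : F) = 0 := FiniteField.cast_card_eq_zero F
    rw [hF, hq, ← pow_mul, Nat.cast_pow] at h0
    exact_mod_cast eq_zero_of_pow_eq_zero h0
  haveI := hchar
  let θ : G → F := fun x => (c x).1
  have hmul : ∀ x ∈ Q, ∀ y ∈ Q, θ (x * y) = θ x + θ y := fun x hx y hy =>
    congrArg Prod.fst (hC.mul x hx y hy)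
  have hsnd : ∀ x ∈ Q, (c (x * x)).2 = θ x ^ q * θ x := by
    intro x hx
    rw [congrArg Prod.snd (hC.mul x hx x hx)]
    show (c x).2 + (c x).2 + (c x).1 ^ q * (c x).1 = _
    rw [CharTwo.add_self_eq_zero, zero_add]
  have hone : θ 1 = 0 := by
    have := hmul 1 Q.one_mem 1 Q.one_mem
    rwa [one_mul, CharTwo.add_self_eq_zero] at this
  have hq0 : q ≠ 0 := by rw [hq]; positivity
  have hzero : ∀ x ∈ Q, θ x = 0 ↔ x ∈ Coords.zSub hc := by
    intro x hx
    constructor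
    · intro e
      refine ⟨Q_fix h.hyp.setup hx, hC.bijOn.injOn (Q.mul_mem hx hx) Q.one_mem ?_⟩
      refine Prod.ext ?_ ?_
      · show θ (x * x) = θ 1
        rw [hmul x hx x hx, CharTwo.add_self_eq_zero, hone]
      · rw [hsnd x hx, e, mul_zero]
        have := hsnd 1 Q.one_mem
        rwa [one_mul, hone, mul_zero, eq_comm] at this
    · intro hz
      have h1 := hsnd x hx
      rw [Coords.z_sq hc hz] at h1
      have h2 := hsnd 1 Q.one_mem
      rw [one_mul, hone, mul_zero] at h2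
      rw [h2, ← pow_succ, eq_comm] at h1
      exact eq_zero_of_pow_eq_zero h1
  have hsurj : ∀ α : F, ∃ x ∈ Q, θ x = α := by
    intro α
    let f : Q →* Multiplicative F := MonoidHom.mk' (fun x => Multiplicative.ofAdd (θ x))
      fun x y => congrArg Multiplicative.ofAdd (hmul x x.2 y y.2)
    have hk : f.ker = (Coords.zSub hc).subgroupOf Q := by
      ext x
      rw [MonoidHom.mem_ker, Subgroup.mem_subgroupOf, ← hzero x x.2]
      exact ofAdd_eq_one
    have hcard := Subgroup.card_eq_card_quotient_mul_card_subgroup f.ker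
    rw [Nat.card_congr (QuotientGroup.quotientKerEquivRange f).toEquiv, he, hk,
      Nat.card_congr (Subgroup.subgroupOfEquivOfLe (Coords.zSub_le hc)).toEquiv,
      Coords.card_zSub] at hcard
    have hr : Nat.card f.range = Nat.card (Multiplicative F) := by
      rw [Nat.card_congr (Multiplicative.toAdd : Multiplicative F ≃ F), @Nat.card_eq_fintype_card F, hF]
      exact (Nat.eq_of_mul_eq_mul_right (Nat.pos_of_ne_zero hq0)
        ((hcard.symm).trans (pow_succ q 2)))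
    haveI : Finite (Multiplicative F) := Finite.of_equiv F Multiplicative.ofAdd
    obtain ⟨x, hx⟩ := (Subgroup.eq_top_of_card_eq _ hr ▸ Subgroup.mem_top (Multiplicative.ofAdd α) :
      Multiplicative.ofAdd α ∈ f.range)
    exact ⟨x, x.2, Multiplicative.ofAdd.injective hx⟩
  have hfrob : ∀ α : F, α ^ q ^ 2 = α := fun α => by rw [← hF]; exact FiniteField.pow_card α
  refine ⟨F, iF, hchar, θ, hzero, hmul, hsurj, hfrob, ?_⟩
  intro φ σ f
  choose w hwQ hw using hsurj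
  have hwd : ∀ x ∈ Q, θ (φ x) = θ (φ (w (θ x))) := by
    intro x hx
    have hz : (w (θ x))⁻¹ * x ∈ Coords.zSub hc := by
      refine (hzero _ (Q.mul_mem (Q.inv_mem (hwQ _)) hx)).1 ?_
      have h1 := hmul _ (hwQ (θ x)) _ (Q.mul_mem (Q.inv_mem (hwQ (θ x))) hx)
      rw [mul_inv_cancel_left, hw] at h1
      exact left_eq_add.1 h1
    conv_lhs => rw [← mul_inv_cancel_left (w (θ x)) x, map_mul]
    rw [hmul _ (f.map_Q h (hwQ _)) _ (f.map_Q h (Coords.zSub_le hc hz)),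
      f.map_invol h (Coords.zSub_le hc hz) (Coords.z_sq hc hz),
      (hzero _ (Coords.zSub_le hc hz)).2 hz, add_zero]
  let β : F → F := fun α => θ (φ (w α))
  have hβ : ∀ x ∈ Q, θ (φ x) = β (θ x) := hwd
  have hadd : ∀ α α', β (α + α') = β α + β α' := by
    intro α α'
    have h1 := hβ _ (Q.mul_mem (hwQ α) (hwQ α'))
    rw [hmul _ (hwQ α) _ (hwQ α'), hw, hw, map_mul,
      hmul _ (f.map_Q h (hwQ α)) _ (f.map_Q h (hwQ α'))] at h1
    exact h1.symm
  have hnorm : ∀ α, β α ^ q * β α = α ^ q * α := by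
    intro α
    have h1 : φ (w α) * φ (w α) = w α * w α := by
      rw [← map_mul, f.map_invol h (Q.mul_mem (hwQ α) (hwQ α))
        (Coords.z_sq hc (Coords.q_sq hc (hwQ α)))]
    have h2 := hsnd _ (f.map_Q h (hwQ α))
    rw [h1, hsnd _ (hwQ α), hw] at h2
    exact h2.symm
  set μ := β 1 with hμdef
  have hμ : μ ^ (q + 1) = 1 := by rw [pow_succ, hμdef, hnorm, one_pow, one_mul]
  have hμ0 : μ ≠ 0 := fun e => by
    rw [e, zero_pow (by omega)] at hμ
    exact zero_ne_one hμ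
  have haddq : ∀ α α' : F, (α + α') ^ q = α ^ q + α' ^ q := fun α α' => by
    haveI : Fact (Nat.Prime 2) := ⟨Nat.prime_two⟩
    rw [hq, add_pow_char_pow]
  set γ : F → F := fun α => μ⁻¹ * β α with hγdef
  have hγadd : ∀ α α', γ (α + α') = γ α + γ α' := fun α α' => by
    rw [hγdef]; simp only [hadd, mul_add]
  have hγnorm : ∀ α, γ α ^ q * γ α = α ^ q * α := fun α => by
    rw [hγdef]
    calc (μ⁻¹ * β α) ^ q * (μ⁻¹ * β α) = (μ ^ (q + 1))⁻¹ * (β α ^ q * β α) := by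
          rw [mul_pow, ← inv_pow, pow_succ]; ring
      _ = α ^ q * α := by rw [hμ, hnorm, inv_one, one_mul]
  have hγone : γ 1 = 1 := by rw [hγdef]; exact inv_mul_cancel₀ hμ0
  have hγtr : ∀ α, γ α ^ q + γ α = α ^ q + α := by
    intro α
    have h1 := hγnorm (α + 1)
    rw [hγadd, hγone, haddq, haddq, one_pow] at h1
    linear_combination h1 - hγnorm α
  have hγ : ∀ α, γ α = α ∨ γ α = α ^ q := by
    intro α
    have h1 : (γ α - α) * (γ α - α ^ q) = 0 := by
      have e := hγtr α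
      have e' := hγnorm α
      linear_combination γ α * e - e'
    rcases mul_eq_zero.1 h1 with h2 | h2
    · exact Or.inl (sub_eq_zero.1 h2)
    · exact Or.inr (sub_eq_zero.1 h2)
  have hdich : (∀ α, γ α = α) ∨ ∀ α, γ α = α ^ q := by
    by_contra hno
    push Not at hno
    obtain ⟨⟨α, hα⟩, ⟨α', hα'⟩⟩ := hno
    have h1 := (hγ α).resolve_left hα
    have h2 := (hγ α').resolve_right hα'
    rcases hγ (α + α') with e | e
    · rw [hγadd, h2, add_left_inj] at e
      exact hα e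
    · rw [hγadd, h1, haddq, add_right_inj] at e
      exact hα' e
  refine ⟨μ, hμ, ?_⟩
  rcases hdich with hd | hd
  · exact Or.inl fun x hx => (hβ x hx).trans ((inv_mul_eq_iff_eq_mul₀ hμ0).1 (hd (θ x)))
  · exact Or.inr fun x hx => (hβ x hx).trans ((inv_mul_eq_iff_eq_mul₀ hμ0).1 (hd (θ x)))

theorem theta_eq {F : Type*} [Field F] {θ : G → F} (f : Fixer a t φ σ) (f' : Fixer a t φ' σ')
    (h : Model G Ω a t Q) (he : Nat.card Q = qNum G a ^ 3)
    (hzero : ∀ x ∈ Q, θ x = 0 ↔ x ∈ Coords.zSub (h.ctx he))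
    (hmul : ∀ x ∈ Q, ∀ y ∈ Q, θ (x * y) = θ x + θ y)
    (heq : ∀ x ∈ Q, θ (φ x) = θ (φ' x)) : σ = σ' := by
  refine (inv_mul_eq_one.1 ((f.inv.mul f').eq_one_of_mod h he fun x hx => ?_))
  have hy : φ.symm (φ' x) ∈ Q := f.inv.map_Q h (f'.map_Q h hx)
  show x⁻¹ * φ.symm (φ' x) ∈ _
  have hm : x⁻¹ * φ.symm (φ' x) ∈ Q := Q.mul_mem (Q.inv_mem hx) hy
  have e : φ (x⁻¹ * φ.symm (φ' x)) ∈ Coords.zSub (h.ctx he) := by
    refine (hzero _ (f.map_Q h hm)).1 ?_
    have h1 := hmul _ (f.map_Q h hx) _ (f.map_Q h hm)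
    rw [← map_mul, mul_inv_cancel_left, MulEquiv.apply_symm_apply, ← heq x hx] at h1
    exact left_eq_add.1 h1
  have h2 := f.inv.map_invol h (Coords.zSub_le _ e) (Coords.z_sq _ e)
  rw [MulEquiv.symm_apply_apply] at h2
  rwa [h2]

/-- In every case a non-trivial symmetry of 2-power order is an involution, and two of them whose
product has 2-power order are equal. -/
theorem two_group (f : Fixer a t φ σ) (f' : Fixer a t φ' σ') (h : Model G Ω a t Q) {i j k : ℕ}
    (hσ : σ ^ 2 ^ i = 1) (hσ' : σ' ^ 2 ^ j = 1) (hp : (σ * σ') ^ 2 ^ k = 1) (h1 : σ ≠ 1)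
    (h1' : σ' ≠ 1) : σ = σ' ∧ σ * σ = 1 := by
  by_cases he : Nat.card Q = qNum G a ^ 3
  swap
  · exact absurd (f.eq_one h he) h1
  obtain ⟨F, _, _, θ, hzero, hmul, hsurj, hfrob, hcl⟩ := classify h he
  set q := qNum G a
  have fone : Fixer a t (MulEquiv.refl G) (1 : Equiv.Perm Ω) :=
    ⟨fun _ _ => rfl, rfl, rfl, fun _ _ => rfl⟩
  have hfix : ∀ {ψ : G ≃* G} {τ : Equiv.Perm Ω}, Fixer a t ψ τ →
      (∀ x ∈ Q, θ (ψ x) = θ x) → τ = 1 := fun {ψ τ} g hg =>
    theta_eq g fone h he hzero hmul hg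
  -- a linear symmetry of 2-power order is trivial
  have hlin : ∀ {ψ : G ≃* G} {τ : Equiv.Perm Ω} (_ : Fixer a t ψ τ) {m : ℕ}, τ ^ 2 ^ m = 1 →
      ∀ ν : F, ν ^ (q + 1) = 1 → (∀ x ∈ Q, θ (ψ x) = ν * θ x) → τ = 1 := by
    intro ψ τ g m hm ν hν hg
    have hpow : ∀ l : ℕ, ∃ χ : G ≃* G, Fixer a t χ (τ ^ l) ∧
        ∀ x ∈ Q, θ (χ x) = ν ^ l * θ x := by
      intro l
      induction l with
      | zero => exact ⟨MulEquiv.refl G, fone, fun x _ => by simp⟩
      | succ l ih =>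
        obtain ⟨χ, hχ, hx⟩ := ih
        refine ⟨χ.trans ψ, by rw [pow_succ']; exact g.mul hχ, fun x hxQ => ?_⟩
        show θ (ψ (χ x)) = _
        rw [hg _ (hχ.map_Q h hxQ), hx x hxQ, ← mul_assoc, ← pow_succ']
    obtain ⟨χ, hχ, hx⟩ := hpow (2 ^ m)
    rw [hm] at hχ
    have hσb : ∀ x ∈ Q, χ x = x := by
      intro x hxQ
      refine Q_smul_inj h.hyp.setup (hχ.map_Q h hxQ) hxQ (t_smul_ne h.hyp.setup) ?_
      rw [← hχ.sigma_smul, Equiv.Perm.one_apply]
    obtain ⟨x, hxQ, hx1⟩ := hsurj 1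
    have h2 := hx x hxQ
    rw [hσb x hxQ, hx1, mul_one] at h2
    have hν1 : ν = 1 := by
      haveI : Fact (Nat.Prime 2) := ⟨Nat.prime_two⟩
      exact iterateFrobenius_inj F 2 m (by rw [iterateFrobenius_def, iterateFrobenius_def, ← h2, one_pow])
    exact hfix g fun x hxQ => by rw [hg x hxQ, hν1, one_mul]
  have key : ∀ {ψ : G ≃* G} {τ : Equiv.Perm Ω} (_ : Fixer a t ψ τ) {m : ℕ}, τ ^ 2 ^ m = 1 →
      τ ≠ 1 → ∃ ν : F, ν ^ (q + 1) = 1 ∧ ∀ x ∈ Q, θ (ψ x) = ν * θ x ^ q := by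
    intro ψ τ g m hm hτ
    obtain ⟨ν, hν, hc | hc⟩ := hcl g
    · exact absurd (hlin g hm ν hν hc) hτ
    · exact ⟨ν, hν, hc⟩
  obtain ⟨μ, hμ, hf⟩ := key f hσ h1
  obtain ⟨μ', hμ', hf'⟩ := key f' hσ' h1'
  have hqq : ∀ α : F, (α ^ q) ^ q = α := fun α => by rw [← pow_mul, ← sq]; exact hfrob α
  have hsq : σ * σ = 1 := hfix (f.mul f) fun x hx => by
    show θ (φ (φ x)) = θ x
    rw [hf _ (f.map_Q h hx), hf x hx, mul_pow, hqq, ← mul_assoc, ← pow_succ', hμ, one_mul]
  refine ⟨?_, hsq⟩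
  have hprod : σ * σ' = 1 := by
    refine hlin (f.mul f') hp (μ * μ' ^ q) ?_ fun x hx => ?_
    · rw [mul_pow, hμ, one_mul, ← pow_mul, mul_comm q, pow_mul, hμ', one_pow]
    · show θ (φ (φ' x)) = _
      rw [hf _ (f'.map_Q h hx), hf' x hx, mul_pow, hqq, mul_assoc]
  exact (mul_left_cancel (a := σ) (by rw [hprod, hsq])).symm

/-- A non-trivial symmetry of odd order fixes exactly the line of `a` and `t • a`. -/
theorem fix_of_odd (f : Fixer a t φ σ) (h : Model G Ω a t Q) (he : Nat.card Q = qNum G a ^ 3)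
    {n : ℕ} (hn : Odd n) (hσ : σ ^ n = 1) (h1 : σ ≠ 1) (p : Ω) :
    σ p = p ↔ p = a ∨ p = t • a ∨ ∃ s ∈ invs G a, p = s • t • a := by
  obtain ⟨F, _, _, θ, hzero, hmul, hsurj, hfrob, hcl⟩ := classify h he
  set q := qNum G a
  have fone : Fixer a t (MulEquiv.refl G) (1 : Equiv.Perm Ω) :=
    ⟨fun _ _ => rfl, rfl, rfl, fun _ _ => rfl⟩
  constructor
  swap
  · rintro (rfl | rfl | ⟨s, hs, rfl⟩)
    · exact f.fix_a
    · exact f.fix_b
    · rw [f.sigma_smul, f.fix_invs s hs]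
  intro hp
  refine or_iff_not_imp_left.2 fun hpa => ?_
  obtain ⟨x, hx, rfl⟩ := Q_trans h.hyp.setup (t_smul_ne h.hyp.setup) hpa
  rw [f.sigma_smul] at hp
  have hx' := Q_smul_inj h.hyp.setup (f.map_Q h hx) hx (t_smul_ne h.hyp.setup) hp
  obtain ⟨μ, hμ, hc | hc⟩ := hcl f
  · have h2 := hc x hx
    rw [hx'] at h2
    have hμ1 : μ ≠ 1 := fun e => h1 (theta_eq f fone h he hzero hmul fun y hy => by
      rw [hc y hy, e, one_mul]; rfl)
    have hx0 : θ x = 0 := by
      by_contra h0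
      exact hμ1 ((mul_eq_right₀ h0).1 h2.symm)
    have hz := (hzero x hx).1 hx0
    by_cases hx1 : x = 1
    · exact Or.inl (by rw [hx1, one_smul])
    · exact Or.inr ⟨x, ⟨hz.1, hx1, hz.2⟩, rfl⟩
  · exfalso
    have hsq : σ * σ = 1 := theta_eq (f.mul f) fone h he hzero hmul fun y hy => by
      show θ (φ (φ y)) = θ y
      rw [hc _ (f.map_Q h hy), hc y hy, mul_pow, ← pow_mul (θ y), ← sq, hfrob, ← mul_assoc,
        ← pow_succ', hμ, one_mul]
    obtain ⟨m, rfl⟩ := hn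
    rw [pow_succ, pow_mul, sq, hsq, one_pow, one_mul] at hσ
    exact h1 hσ

end Fixer

end Cfsg.Agent.Lib.Crit5.Shape
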