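import Cfsg.Agent.Lib.Crit5.Shape.Model
import Cfsg.Agent.Lib.BenderOne.Final

/-!
# The single fixed point criterion, section S: the image on the points

A group generated by involutions with strongly embedded point stabiliser and two commuting
involutions induces on the points a `Model`; the kernel is the odd core.
-/

set_option autoImplicit false
set_option linter.style.haveILetI false

namespace Cfsg.Agent.Lib.Crit5.Shape

open MulAction Cfsg.Agent.Lib.Involutions.Basic Cfsg.Agent.Lib.Involutions.StronglyEmbedded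
open Cfsg.Agent.Lib.RankOne.Basic
open Cfsg.Agent.Lib.BenderSuzuki (Hyp TwoRank invs qNum)

universe u v

section transport

variable {G : Type u} [Group G] {Ω : Type v} {Ω' : Type v} [MulAction G Ω] [MulAction G Ω']

theorem setup_transport (f : Ω ≃ Ω') (hf : ∀ (g : G) (x : Ω), f (g • x) = g • f x) {a : Ω} {t : G}
    {Q : Subgroup G} (hS : Cfsg.IsRankOneSetup G Ω a t Q) :
    Cfsg.IsRankOneSetup G Ω' (f a) t Q := by
  have hst : ∀ x : Ω, stabilizer G (f x) = stabilizer G x := fun x => by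
    ext g
    rw [mem_stabilizer_iff, mem_stabilizer_iff, ← hf]
    exact f.injective.eq_iff
  refine ⟨is_two_pretransitive_iff.2 fun {b c d e} hbc hde => ?_, hS.mul_self, hS.ne_one, ?_, ?_, ?_,
    ?_, ?_, hS.even_card, ?_⟩
  · obtain ⟨g, h1, h2⟩ := (is_two_pretransitive_iff.1 hS.two_transitive) (f.symm.injective.ne hbc)
      (f.symm.injective.ne hde)
    refine ⟨g, f.symm.injective ?_, f.symm.injective ?_⟩
    · rw [← h1, ← f.symm_apply_apply (g • f.symm b), hf, f.apply_symm_apply]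
    · rw [← h2, ← f.symm_apply_apply (g • f.symm c), hf, f.apply_symm_apply]
  · rw [hst]; exact hS.not_mem
  · rw [hst]; exact hS.le
  · rw [hst]; exact hS.conj_mem
  · rw [← hf, hst]; exact hS.inf_eq_bot
  · rw [← hf, hst, hst]; exact hS.sup_eq
  · rw [← hf, hst, hst]; exact hS.odd_card

/-- Any other point may serve as the second point. -/
theorem exists_setup_at [Finite G] {a : Ω} {t : G} {Q : Subgroup G}
    (hS : Cfsg.IsRankOneSetup G Ω a t Q) {b : Ω} (hb : b ≠ a) :
    ∃ t' : G, t' • a = b ∧ Cfsg.IsRankOneSetup G Ω a t' Q := by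
  obtain ⟨g, hg, hgb⟩ := exists_pair hS (t_smul_ne hS).symm hb.symm
  have hga : g⁻¹ • a = a := inv_smul_eq_iff.2 hg.symm
  have ht'a : (g * t * g⁻¹) • a = b := by rw [mul_smul, mul_smul, hga, hgb]
  refine ⟨g * t * g⁻¹, ht'a, hS.two_transitive, ?_, ?_, ?_, hS.le, hS.conj_mem, ?_, ?_,
    hS.even_card, ?_⟩
  · rw [show g * t * g⁻¹ * (g * t * g⁻¹) = g * (t * t) * g⁻¹ by group, hS.mul_self, mul_one,
      mul_inv_cancel]
  · exact fun h => hS.ne_one (by simpa using h)
  · exact fun h => hb (ht'a.symm.trans h)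
  · rw [ht'a]
    exact (Subgroup.eq_bot_iff_forall _).2 fun x hx => Q_free hS hx.1 hb hx.2
  · rw [ht'a]
    refine le_antisymm (sup_le hS.le inf_le_left) fun x hx => ?_
    have hxa : x • a = a := hx
    obtain ⟨q, hq, hqb⟩ := Q_trans hS hb
      (fun h : x • b = a => hb (smul_left_cancel x (h.trans hxa.symm)))
    have hd : q⁻¹ * x ∈ stabilizer G a ⊓ stabilizer G b := by
      refine ⟨(stabilizer G a).mul_mem ((stabilizer G a).inv_mem (hS.le hq)) hx, ?_⟩
      show (q⁻¹ * x) • b = b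
      rw [mul_smul, inv_smul_eq_iff, hqb]
    rw [show x = q * (q⁻¹ * x) by group]
    exact Subgroup.mul_mem _ (Subgroup.mem_sup_left hq) (Subgroup.mem_sup_right hd)
  · rw [ht'a]
    have e : stabilizer G a ⊓ stabilizer G b =
        (stabilizer G a ⊓ stabilizer G (t • a)).map (MulAut.conj g).toMonoidHom := by
      ext x
      constructor
      · rintro ⟨(h1 : x • a = a), (h2 : x • b = b)⟩
        refine ⟨g⁻¹ * x * g, ⟨?_, ?_⟩, by simp [mul_assoc]⟩
        · show (g⁻¹ * x * g) • a = a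
          rw [mul_smul, mul_smul, hg, h1, hga]
        · show (g⁻¹ * x * g) • t • a = t • a
          rw [mul_smul, mul_smul, hgb, h2, ← hgb, inv_smul_smul]
      · rintro ⟨y, ⟨(h1 : y • a = a), (h2 : y • t • a = t • a)⟩, rfl⟩
        exact ⟨show (g * y * g⁻¹) • a = a by rw [mul_smul, mul_smul, hga, h1, hg],
          show (g * y * g⁻¹) • b = b by rw [mul_smul, mul_smul, ← hgb, inv_smul_smul, h2]⟩
    rw [e, Subgroup.card_map_of_injective (MulAut.conj g).injective]
    exact hS.odd_card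

end transport

variable {M : Type u} [Group M] {Ω : Type v} [MulAction M Ω]

/-- The permutation group induced on the points. -/
abbrev img (M : Type u) [Group M] (Ω : Type v) [MulAction M Ω] : Subgroup (Equiv.Perm Ω) :=
  (toPermHom M Ω).range

/-- The map onto the permutation group induced on the points. -/
abbrev toImg (M : Type u) [Group M] (Ω : Type v) [MulAction M Ω] : M →* img M Ω :=
  (toPermHom M Ω).rangeRestrict

theorem toImg_smul (y : M) (p : Ω) : toImg M Ω y • p = y • p := rfl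

theorem toImg_surjective : Function.Surjective (toImg M Ω) :=
  (toPermHom M Ω).rangeRestrict_surjective

theorem toImg_eq_iff {x y : M} : toImg M Ω x = toImg M Ω y ↔ ∀ p : Ω, x • p = y • p := by
  refine ⟨fun h p => ?_, fun h => Subtype.ext (Equiv.ext h)⟩
  rw [← toImg_smul x, h, toImg_smul]

variable [Finite M] [IsPretransitive M Ω] {a : Ω} (hSE : Cfsg.IsStronglyEmbedded (stabilizer M a))
include hSE

/-- An involution fixes exactly one point. -/
theorem fix_unique {v : M} (hv : orderOf v = 2) {p p' : Ω} (hp : v • p = p) (hp' : v • p' = p') :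
    p = p' := by
  obtain ⟨g, rfl⟩ := exists_smul_eq M a p
  obtain ⟨g', rfl⟩ := exists_smul_eq M a p'
  have h1 : (g⁻¹ * v * g) • a = a := by rw [mul_smul, mul_smul, hp, inv_smul_smul]
  have h2 : (g'⁻¹ * g) * (g⁻¹ * v * g) * (g'⁻¹ * g)⁻¹ ∈ stabilizer M a := by
    show ((g'⁻¹ * g) * (g⁻¹ * v * g) * (g'⁻¹ * g)⁻¹) • a = a
    rw [show (g'⁻¹ * g) * (g⁻¹ * v * g) * (g'⁻¹ * g)⁻¹ = g'⁻¹ * v * g' by group, mul_smul, mul_smul,
      hp', inv_smul_smul]
  have h3 := mem_of_conj_mem hSE
    (show orderOf (g⁻¹ * v * g) = 2 by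
      have := orderOf_conj_eq g⁻¹ v
      rw [inv_inv] at this
      rw [this, hv]) h1 h2
  have h4 : (g'⁻¹ * g) • a = a := h3
  rw [mul_smul, inv_smul_eq_iff] at h4
  exact h4

theorem exists_fix {v : M} (hv : orderOf v = 2) : ∃ p : Ω, v • p = p := by
  obtain ⟨g, hg⟩ := exists_conj_mem hSE hv
  refine ⟨g⁻¹ • a, ?_⟩
  have h : (g * v * g⁻¹) • a = a := hg
  rw [mul_smul, mul_smul, smul_eq_iff_eq_inv_smul] at h
  exact h

theorem toImg_eq_one_iff_mem (y : M) :
    toImg M Ω y = 1 ↔ y ∈ (stabilizer M a).normalCore := by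
  rw [← map_one (toImg M Ω), toImg_eq_iff]
  constructor
  · intro h g
    show (g * y * g⁻¹) • a = a
    rw [mul_smul, mul_smul, h (g⁻¹ • a), one_smul, smul_inv_smul]
  · intro h p
    obtain ⟨g, rfl⟩ := exists_smul_eq M a p
    have h' : (g⁻¹ * y * g⁻¹⁻¹) • a = a := h g⁻¹
    rw [inv_inv, mul_smul, mul_smul, inv_smul_eq_iff] at h'
    rw [h', one_smul]

theorem odd_orderOf_of_toImg {y : M} (hy : toImg M Ω y = 1) : Odd (orderOf y) :=
  (BenderConsumers23.odd_normalCore hSE).of_dvd_nat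
    (Subgroup.orderOf_dvd_natCard _ ((toImg_eq_one_iff_mem hSE y).1 hy))

/-- With two commuting involutions the kernel is the odd core. -/
theorem toImg_eq_one_iff (h2 : TwoRank M) (y : M) : toImg M Ω y = 1 ↔ y ∈ Cfsg.oddCore M := by
  rw [toImg_eq_one_iff_mem hSE, BenderConsumers23.normalCore_eq_oddCore hSE h2]

theorem orderOf_toImg {v : M} (hv : orderOf v = 2) : orderOf (toImg M Ω v) = 2 := by
  refine orderOf_eq_prime (by rw [← map_pow, ← hv, pow_orderOf_eq_one, map_one]) fun h => ?_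
  have := odd_orderOf_of_toImg hSE h
  rw [hv] at this
  exact absurd this (by decide)

/-- Involutions of the permutation group come from involutions. -/
theorem exists_lift {v : img M Ω} (hv : orderOf v = 2) :
    ∃ g : M, orderOf g = 2 ∧ toImg M Ω g = v := by
  obtain ⟨g, rfl⟩ := toImg_surjective v
  have h2 : toImg M Ω (g ^ 2) = 1 := by rw [map_pow, ← hv, pow_orderOf_eq_one]
  obtain ⟨k, hk⟩ := odd_orderOf_of_toImg hSE h2
  have himg : toImg M Ω (g ^ orderOf (g ^ 2)) = toImg M Ω g := by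
    rw [hk, pow_succ, pow_mul, map_mul, map_pow, h2, one_pow, one_mul]
  refine ⟨g ^ orderOf (g ^ 2), orderOf_eq_prime ?_ fun h => ?_, himg⟩
  · rw [← pow_mul, mul_comm, pow_mul, pow_orderOf_eq_one]
  · rw [h, map_one] at himg
    rw [← himg, orderOf_one] at hv
    exact absurd hv (by decide)

/-- The permutation group is a model. -/
theorem exists_model (h2 : TwoRank M) (hgen : Subgroup.closure {x : M | x * x = 1} = ⊤) {b : Ω}
    (hb : b ≠ a) : ∃ (t : img M Ω) (Q : Subgroup (img M Ω)), t • a = b ∧ Model (img M Ω) Ω a t Q := by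
  classical
  haveI : Finite (img M Ω) := Finite.of_surjective _ toImg_surjective
  haveI : IsPretransitive (img M Ω) Ω :=
    ⟨fun p p' => (exists_smul_eq M p p').imp' (toImg M Ω) fun _ h => h⟩
  haveI hfaith : FaithfulSMul (img M Ω) Ω := ⟨fun h => Subtype.ext (Equiv.ext h)⟩
  set H := stabilizer (img M Ω) a
  have hSE' : Cfsg.IsStronglyEmbedded H := by
    refine of_forall_conj (fun h => ?_) ?_ fun v hv hv2 g hg => ?_
    · obtain ⟨g, hg⟩ := exists_smul_eq (img M Ω) a b
      exact hb (hg.symm.trans (mem_stabilizer_iff.1 (show g ∈ H from h ▸ Subgroup.mem_top g)))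
    · obtain ⟨x, y, hx, -, -, hxx, -, -⟩ := h2
      obtain ⟨g, hg⟩ := exists_conj_mem hSE (invol_iff.2 ⟨hxx, hx⟩)
      have h3 := orderOf_toImg hSE ((orderOf_conj_eq g x).trans (invol_iff.2 ⟨hxx, hx⟩))
      rw [even_iff_two_dvd, ← h3]
      exact Subgroup.orderOf_dvd_natCard H hg
    · obtain ⟨s, hs, rfl⟩ := exists_lift hSE hv2
      obtain ⟨g', rfl⟩ := toImg_surjective g
      rw [← map_inv, ← map_mul, ← map_mul] at hg
      exact mem_of_conj_mem hSE hs (show s ∈ stabilizer M a from hv) hg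
  have hcore : H.normalCore = ⊥ := by
    refine (Subgroup.eq_bot_iff_forall _).2 fun v hv => eq_of_smul_eq_smul fun p : Ω => ?_
    obtain ⟨g, rfl⟩ := exists_smul_eq (img M Ω) a p
    have h : (g⁻¹ * v * g⁻¹⁻¹) • a = a := hv g⁻¹
    rw [inv_inv, mul_smul, mul_smul, inv_smul_eq_iff] at h
    rw [h, one_smul]
  have h2' : TwoRank (img M Ω) := by
    obtain ⟨x, y, hx, hy, hxy, hxx, hyy, hc⟩ := h2
    have hx2 := orderOf_toImg hSE (invol_iff.2 ⟨hxx, hx⟩)
    have hy2 := orderOf_toImg hSE (invol_iff.2 ⟨hyy, hy⟩)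
    refine ⟨toImg M Ω x, toImg M Ω y, invol_ne_one hx2, invol_ne_one hy2, fun e => hxy ?_,
      invol_mul_self hx2, invol_mul_self hy2, by rw [← map_mul, hc, map_mul]⟩
    have h1 : toImg M Ω (x * y) = 1 := by rw [map_mul, e, invol_mul_self hy2]
    have h3 : (x * y) ^ 2 = 1 := by
      rw [(show Commute x y from hc).mul_pow, sq, sq, hxx, hyy, one_mul]
    have h4 := Nat.Coprime.eq_one_of_dvd (Nat.coprime_two_right.2 (odd_orderOf_of_toImg hSE h1))
      (orderOf_dvd_of_pow_eq_one h3)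
    rw [eq_inv_of_mul_eq_one_left (orderOf_eq_one_iff.1 h4), inv_eq_of_mul_eq_one_right hyy]
  obtain ⟨t, Q, hS⟩ := BenderOne.propPartOneFinal (img M Ω) H hSE' h2' hcore
  have hS' : Cfsg.IsRankOneSetup (img M Ω) Ω a t Q := by
    have := setup_transport (orbitEquivQuotientStabilizer (img M Ω) a).symm
      (Ω' := orbit (img M Ω) a) (fun g x => ?_) hS
    · have hf : ((orbitEquivQuotientStabilizer (img M Ω) a).symm ((1 : img M Ω) : _ ⧸ H) :
          orbit (img M Ω) a) = ⟨a, mem_orbit_self a⟩ :=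
        Subtype.ext (one_smul (img M Ω) a)
      rw [hf] at this
      exact setup_transport (Equiv.subtypeUnivEquiv fun p => mem_orbit_iff.2 (exists_smul_eq _ a p))
        (fun g x => rfl) this
    · induction x using QuotientGroup.induction_on with
      | H y =>
        exact Subtype.ext (mul_smul g y a)
  obtain ⟨t', ht', hS''⟩ := exists_setup_at hS' hb
  refine ⟨t', Q, ht', ⟨hS'', hfaith, h2'⟩, ?_⟩
  have hsurj : Function.Surjective (toImg M Ω) := toImg_surjective
  rw [← Subgroup.map_top_of_surjective _ hsurj, ← hgen, MonoidHom.map_closure]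
  refine le_antisymm ?_ (Subgroup.closure_mono ?_)
  · refine (Subgroup.closure_le _).2 fun v hv => ?_
    by_cases h : v = 1
    · rw [h]; exact one_mem _
    · obtain ⟨g, hg, rfl⟩ := exists_lift hSE (invol_iff.2 ⟨hv, h⟩)
      exact Subgroup.subset_closure ⟨g, invol_mul_self hg, rfl⟩
  · rintro _ ⟨g, hg, rfl⟩
    show toImg M Ω g * toImg M Ω g = 1
    rw [← map_mul, show g * g = 1 from hg, map_one]

/-- Involutions in a 2-group commute. -/
theorem commute_of_isPGroup (hgen : Subgroup.closure {x : M | x * x = 1} = ⊤) {P : Subgroup M}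
    (hP : IsPGroup 2 P) {x y : M} (hx : orderOf x = 2) (hy : orderOf y = 2) (hxP : x ∈ P)
    (hyP : y ∈ P) : Commute x y := by
  haveI : Fact (Nat.Prime 2) := ⟨Nat.prime_two⟩
  haveI : Nontrivial P :=
    ⟨⟨⟨x, hxP⟩, 1, fun e => invol_ne_one hx (congrArg Subtype.val e)⟩⟩
  haveI := hP.center_nontrivial
  obtain ⟨c, hc⟩ := exists_prime_orderOf_dvd_card' (G := Subgroup.center P) 2 (by
    obtain ⟨i, hi⟩ := IsPGroup.iff_card.1 (hP.to_subgroup (Subgroup.center P))
    rw [hi]
    refine dvd_pow_self 2 fun e => ?_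
    rw [e, pow_zero] at hi
    exact Finite.one_lt_card.ne' hi)
  have hz : orderOf ((c : P) : M) = 2 := by rw [Subgroup.orderOf_coe, Subgroup.orderOf_coe, hc]
  have hzc : ∀ w ∈ P, Commute ((c : P) : M) w := fun w hw =>
    (congrArg Subtype.val (Subgroup.mem_center_iff.1 c.2 ⟨w, hw⟩)).symm
  by_cases h2 : TwoRank M
  · obtain ⟨p, hp⟩ := exists_fix hSE hz
    obtain ⟨g, hg⟩ := exists_smul_eq M p a
    have hfix : ∀ w ∈ P, (g * w * g⁻¹) • a = a := by
      intro w hw
      rw [← hg, mul_smul, mul_smul, inv_smul_smul]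
      congr 1
      refine fix_unique hSE hz ?_ hp
      rw [← mul_smul, (hzc w hw).eq, mul_smul, hp]
    obtain ⟨q, hq⟩ : ∃ b : Ω, b ≠ a := by
      obtain ⟨k, -, hk⟩ := SetLike.exists_of_lt (lt_top_iff_ne_top.2 hSE.1)
      exact ⟨k • a, hk⟩
    obtain ⟨t, Q, -, hMod⟩ := exists_model hSE h2 hgen hq
    have key : ∀ w ∈ P, orderOf w = 2 → toImg M Ω (g * w * g⁻¹) ∈ invs (img M Ω) a := by
      intro w hw hw2
      have h3 := orderOf_toImg hSE ((orderOf_conj_eq g w).trans hw2)
      exact ⟨hfix w hw, invol_ne_one h3, invol_mul_self h3⟩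
    haveI : Finite (img M Ω) := Finite.of_surjective _ toImg_surjective
    have h4 : Commute (toImg M Ω (g * x * g⁻¹)) (toImg M Ω (g * y * g⁻¹)) :=
      hMod.invs_comm (key x hxP hx) (BenderSuzuki.mem_Q_of_invs hMod.hyp (key y hyP hy))
    have h5 : toImg M Ω (g * (x * y * x⁻¹ * y⁻¹) * g⁻¹) = 1 := by
      rw [show g * (x * y * x⁻¹ * y⁻¹) * g⁻¹ = (g * x * g⁻¹) * (g * y * g⁻¹) * (g * x * g⁻¹)⁻¹ *
        (g * y * g⁻¹)⁻¹ by group, map_mul, map_mul, map_mul, h4.eq, map_inv, map_inv]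
      group
    have h6 := odd_orderOf_of_toImg hSE h5
    rw [orderOf_conj_eq] at h6
    obtain ⟨i, hi⟩ := hP ⟨x * y * x⁻¹ * y⁻¹, mul_mem (mul_mem (mul_mem hxP hyP) (inv_mem hxP))
      (inv_mem hyP)⟩
    have h7 := orderOf_eq_one_iff.1 (Nat.Coprime.eq_one_of_dvd
      ((Nat.coprime_two_right.2 h6).pow_right i) (orderOf_dvd_of_pow_eq_one (congrArg Subtype.val hi)))
    exact mul_inv_eq_iff_eq_mul.1 (eq_of_mul_inv_eq_one h7)
  · have hx' := BenderConsumers23.eq_of_not_twoRank h2 hz hx (hzc x hxP).eq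
    have hy' := BenderConsumers23.eq_of_not_twoRank h2 hz hy (hzc y hyP).eq
    rw [← hx', ← hy']

end Cfsg.Agent.Lib.Crit5.Shape
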