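import Cfsg.Agent.Lib.BenderSuzuki.Main
import Cfsg.Agent.Lib.BenderSuzuki.Order
import Cfsg.Agent.S1128

/-!
# The single fixed point criterion, section S: set-ups generated by involutions

A split rank-one set-up generated by its involutions is `L2(q)`, `Sz(q)` or `U3(q)` on `q ^ e + 1`
points.  See `notes/crit_helper5.md`, section S.
-/

set_option autoImplicit false

namespace Cfsg.Agent.Lib.Crit5.Shape

open MulAction Cfsg.Agent.Lib.RankOne.Basic Cfsg.Agent.Lib.RankOne.Involution
open Cfsg.Agent.Lib.BenderSuzuki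
open Cfsg.Agent.Lib.FTDeps

universe u v

variable {G : Type u} {Ω : Type v} [Group G] [MulAction G Ω] {a : Ω} {t : G} {Q : Subgroup G}

/-- A split rank-one set-up generated by its involutions. -/
structure Model (G : Type u) (Ω : Type v) [Group G] [MulAction G Ω] (a : Ω) (t : G) (Q : Subgroup G) :
    Prop where
  hyp : Hyp G Ω a t Q
  gen : Subgroup.closure {x : G | x * x = 1} = ⊤

namespace Model

variable [Finite G] (h : Model G Ω a t Q)
include h

theorem isPGroup : IsPGroup 2 Q := (propMain G Ω a t Q h.hyp).1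

theorem isSimple : IsSimpleGroup G :=
  Reduction.isSimple h.hyp (top_unique (h.gen ▸ (Subgroup.closure_le _).2 fun _ hx =>
    Reduction.mem_invGen hx))

/-- The conclusion of the main theorem, the subgroup being everything. -/
theorem cases_top :
    IsLinearCase a t Q ⊤ ∨ IsSuzukiCase a t Q ⊤ ∨ IsUnitaryCase a t Q ⊤ := by
  obtain ⟨-, L, hLn, hodd, -, -, hc⟩ := propMain G Ω a t Q h.hyp
  have hL : L = ⊤ := top_unique (h.gen ▸ (Subgroup.closure_le _).2 fun x hx =>
    Reduction.mem_of_odd_index hodd hx)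
  rwa [hL] at hc

theorem qNum_pow : ∃ n : ℕ, 2 ≤ n ∧ qNum G a = 2 ^ n :=
  TwoGroup.qNum_pow h.hyp

theorem four_le : 4 ≤ qNum G a := by
  obtain ⟨n, hn, hq⟩ := h.qNum_pow
  exact hq ▸ le_trans (by norm_num) (Nat.pow_le_pow_right two_pos hn)

theorem card_cases :
    ∃ e : ℕ, (e = 1 ∨ e = 2 ∨ e = 3) ∧ Nat.card Q = qNum G a ^ e := by
  rcases h.cases_top with ⟨hc, -⟩ | ⟨hc, -⟩ | ⟨hc, -⟩
  · exact ⟨1, Or.inl rfl, hc.trans (pow_one _).symm⟩
  · exact ⟨2, Or.inr (Or.inl rfl), hc⟩
  · exact ⟨3, Or.inr (Or.inr rfl), hc⟩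

/-- With a smaller `Q` nothing fixing two points centralises the involutions of a point. -/
theorem ker_eq_bot (hne : Nat.card Q ≠ qNum G a ^ 3) : vKer a t = ⊥ := by
  by_contra hk
  exact hne (propOrder G Ω a t Q h.hyp h.isPGroup hk)

theorem card_ker (he : Nat.card Q = qNum G a ^ 3) :
    vKer a t ≠ ⊥ ∧ Nat.card (vKer a t : Subgroup G) ∣ qNum G a + 1 := by
  have h4 := h.four_le
  rcases h.cases_top with ⟨hc, -⟩ | ⟨hc, -⟩ | ⟨-, hle, hm, -⟩
  · rw [he] at hc
    nlinarith [Nat.mul_le_mul h4 h4]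
  · rw [he] at hc
    nlinarith [Nat.mul_le_mul h4 h4]
  rw [top_inf_eq] at hle hm
  have heq : vKer a t = vGrp a t := by
    refine le_antisymm (fun x hx => ⟨hx.1, Subgroup.mem_centralizer_singleton_iff.2 ?_⟩) hle
    exact (mul_inv_eq_iff_eq_mul.1
      (RankOneCore.kernel_fixed h.hyp.setup h.hyp.twoRank hx.1 hx.2).1).symm
  rw [heq]
  refine ⟨fun hb => ?_, Dvd.intro _ hm⟩
  rw [hb, Subgroup.card_bot, one_mul] at hm
  have := Nat.le_of_dvd (by norm_num) (Nat.gcd_dvd_left 3 (qNum G a + 1))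
  omega

theorem invs_comm {s : G} (hs : s ∈ invs G a) {x : G} (hx : x ∈ Q) : s * x = x * s :=
  TwoGroup.central h.hyp hs hx

/-- Generated by the involutions at two points, a set-up has no such elements. -/
theorem ker_eq_bot_of_pair
    (hgen : Subgroup.closure (invs G a ∪ invs G (t • a)) = ⊤) : vKer a t = ⊥ := by
  haveI := h.isSimple
  refine (Subgroup.eq_bot_iff_forall _).2 fun v hv => ?_
  have hS := h.hyp.setup
  have hvt : t * v = v * t :=
    mul_inv_eq_iff_eq_mul.1 (RankOneCore.kernel_fixed hS h.hyp.twoRank hv.1 hv.2).1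
  have hva : ∀ s ∈ invs G a, s * v = v * s := fun s hs => Subgroup.mem_centralizer_iff.1 hv.2 s hs
  have hvb : ∀ s ∈ invs G (t • a), s * v = v * s := by
    intro s hs
    have h1 : t * s * t ∈ invs G a := by
      refine ⟨?_, fun e => hs.2.1 ?_, ?_⟩
      · show (t * s * t) • a = a
        rw [mul_smul, mul_smul, show s • t • a = t • a from hs.1, tt_smul hS]
      · rw [show s = t * (t * s * t) * t by simp [mul_assoc, tt_mul hS, hS.mul_self], e, mul_one,
          hS.mul_self]
      · calc t * s * t * (t * s * t) = t * s * (t * t) * s * t := by group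
          _ = t * (s * s) * t := by rw [hS.mul_self]; group
          _ = 1 := by rw [hs.2.2, mul_one, hS.mul_self]
    have h2 : Commute (t * (t * s * t) * t) v :=
      ((show Commute t v from hvt).mul_left (hva _ h1)).mul_left hvt
    rwa [show t * (t * s * t) * t = s by simp [mul_assoc, tt_mul hS, hS.mul_self]] at h2
  have hz : v ∈ Subgroup.center G := by
    refine Subgroup.mem_center_iff.2 fun g => ?_
    have hg : g ∈ Subgroup.closure (invs G a ∪ invs G (t • a)) := hgen ▸ Subgroup.mem_top g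
    have : Commute g v := by
      induction hg using Subgroup.closure_induction with
      | mem x hx => exact hx.elim (hva x) (hvb x)
      | one => exact Commute.one_left v
      | mul x y _ _ hx hy => exact hx.mul_left hy
      | inv x _ hx => exact hx.inv_left
    exact this.eq
  rcases (inferInstance : (Subgroup.center G).Normal).eq_bot_or_eq_top with hc | hc
  · rwa [hc, Subgroup.mem_bot] at hz
  · exfalso
    obtain ⟨s, hs⟩ := exists_involution hS
    have hst : t * s = s * t :=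
      (Subgroup.mem_center_iff.1 (hc ▸ Subgroup.mem_top s) t)
    refine t_smul_ne hS (involution_fix_a hS hs ?_)
    rw [← mul_smul, ← hst, mul_smul, show s • a = a from hs.1]

/-- Generated by the involutions at two points, a set-up is `L2(q)` or `Sz(q)`. -/
theorem card_ne_of_pair (hgen : Subgroup.closure (invs G a ∪ invs G (t • a)) = ⊤) :
    Nat.card Q ≠ qNum G a ^ 3 :=
  fun he => (h.card_ker he).1 (h.ker_eq_bot_of_pair hgen)

theorem exists_kSet_ne_one : ∃ k ∈ kSet a t, k ≠ 1 :=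
  Cfsg.Agent.Lib.RankOne.Nilpotent.exists_inverted_ne_one h.hyp.setup h.hyp.twoRank

/-- A subgroup of `Q` normalised by the torus is trivial or contains the involutions. -/
theorem invs_mem_of_invariant {M : Subgroup G} (hM : M ≤ Q) (hM1 : M ≠ ⊥)
    (hinv : ∀ k ∈ kSet a t, ∀ x ∈ M, k * x * k⁻¹ ∈ M) {s : G} (hs : s ∈ invs G a) : s ∈ M := by
  haveI : Fact (Nat.Prime 2) := ⟨Nat.prime_two⟩
  obtain ⟨i, hi⟩ := IsPGroup.iff_card.1 (h.isPGroup.to_le hM)
  have h2 : 2 ∣ Nat.card M := by
    rw [hi]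
    refine dvd_pow_self 2 fun e => hM1 ?_
    rw [e, pow_zero, Subgroup.card_eq_one] at hi
    exact hi
  obtain ⟨x, hx⟩ := exists_prime_orderOf_dvd_card' (G := M) 2 h2
  have hx' : (x : G) ∈ invs G a := by
    refine ⟨h.hyp.setup.le (hM x.2), fun e => ?_, ?_⟩
    · rw [← orderOf_eq_one_iff, Subgroup.orderOf_coe, hx] at e
      exact absurd e (by norm_num)
    · have := pow_orderOf_eq_one x
      rw [hx, sq] at this
      exact congrArg Subtype.val this
  obtain ⟨k, ⟨hk, hks⟩, -⟩ := existsUnique_K h.hyp.setup hx' hs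
  exact hks ▸ hinv k hk x x.2

/-- A subgroup containing the stabilisers of two pairs through a point contains its involutions. -/
theorem invs_mem_of_two_tori {W : Subgroup G} (hW : twoStab G a t ≤ W) {c : Ω} (hca : c ≠ a)
    (hcb : c ≠ t • a) (hWc : stabilizer G a ⊓ stabilizer G c ≤ W) {s : G} (hs : s ∈ invs G a) :
    s ∈ W := by
  haveI := h.hyp.faithful
  have hS := h.hyp.setup
  obtain ⟨x, hx, rfl⟩ := Q_trans hS (t_smul_ne hS) hca
  obtain ⟨k, hk, hk1⟩ := h.exists_kSet_ne_one
  obtain ⟨k1, k2⟩ := mem_twoStab.1 hk.1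
  have h1 : x * k * x⁻¹ ∈ W := by
    refine hWc ⟨?_, ?_⟩
    · show (x * k * x⁻¹) • a = a
      rw [mul_smul, mul_smul, Q_inv_fix hS hx, k1, Q_fix hS hx]
    · show (x * k * x⁻¹) • x • t • a = x • t • a
      rw [← mul_smul, mul_assoc, inv_mul_cancel, mul_one, mul_smul, k2]
  have hy : x * k * x⁻¹ * k⁻¹ ∈ W ⊓ Q := by
    refine ⟨W.mul_mem h1 (W.inv_mem (hW hk.1)), ?_⟩
    rw [show x * k * x⁻¹ * k⁻¹ = x * (k * x⁻¹ * k⁻¹) by group]
    exact Q.mul_mem hx (twoStab_norm hS hk.1 (Q.inv_mem hx))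
  have hy1 : x * k * x⁻¹ * k⁻¹ ≠ 1 := by
    intro e
    have h2 := Cfsg.Agent.S1128.result hS h.hyp.twoRank k hk hk1
    have : x ∈ Q ⊓ Subgroup.centralizer {k} :=
      ⟨hx, Subgroup.mem_centralizer_singleton_iff.2
        (mul_inv_eq_iff_eq_mul.1 (eq_of_mul_inv_eq_one e))⟩
    rw [h2, Subgroup.mem_bot] at this
    exact hcb (by rw [this, one_smul])
  refine (Subgroup.mem_inf.1 (h.invs_mem_of_invariant (M := W ⊓ Q) inf_le_right
    (fun e => hy1 (by rwa [e, Subgroup.mem_bot] at hy)) (fun l hl y hy' => ?_) hs)).1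
  exact ⟨W.mul_mem (W.mul_mem (hW hl.1) hy'.1) (W.inv_mem (hW hl.1)),
    twoStab_norm hS hl.1 hy'.2⟩

end Model

end Cfsg.Agent.Lib.Crit5.Shape
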