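import Cfsg.Agent.Lib.Crit5.Shape.Model
import Cfsg.Agent.Lib.BenderSuzuki.Coords.Basic

/-!
# The single fixed point criterion, section S: automorphisms fixing two points

An automorphism of a set-up generated by involutions which fixes two points and the involutions at
one of them fixes the torus; it is the identity unless `|Q| = q ^ 3`.
-/

set_option autoImplicit false

namespace Cfsg.Agent.Lib.Crit5.Shape

open MulAction Cfsg.Agent.Lib.RankOne.Basic Cfsg.Agent.Lib.RankOne.Involution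
open Cfsg.Agent.Lib.BenderSuzuki
open Cfsg.Agent.Lib.FTDeps

universe u v

variable {G : Type u} {Ω : Type v} [Group G] [MulAction G Ω] {a : Ω} {t : G} {Q : Subgroup G}

/-- A symmetry of the action fixing `a`, `t • a` and the involutions at `a`. -/
structure Fixer (a : Ω) (t : G) (φ : G ≃* G) (σ : Equiv.Perm Ω) : Prop where
  smul : ∀ (g : G) (p : Ω), σ (g • p) = φ g • σ p
  fix_a : σ a = a
  fix_b : σ (t • a) = t • a
  fix_invs : ∀ s ∈ invs G a, φ s = s

namespace Fixer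

variable {φ φ' : G ≃* G} {σ σ' : Equiv.Perm Ω} (f : Fixer a t φ σ)
include f

theorem mul (f' : Fixer a t φ' σ') : Fixer a t (φ'.trans φ) (σ * σ') where
  smul g p := by
    rw [Equiv.Perm.mul_apply, Equiv.Perm.mul_apply, f'.smul, f.smul]
    rfl
  fix_a := by rw [Equiv.Perm.mul_apply, f'.fix_a, f.fix_a]
  fix_b := by rw [Equiv.Perm.mul_apply, f'.fix_b, f.fix_b]
  fix_invs s hs := by
    show φ (φ' s) = s
    rw [f'.fix_invs s hs, f.fix_invs s hs]

theorem inv : Fixer a t φ.symm σ⁻¹ where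
  smul g p := by
    apply σ.injective
    rw [f.smul]
    simp
  fix_a := σ.injective (by rw [Equiv.Perm.coe_inv, Equiv.apply_symm_apply, f.fix_a])
  fix_b := σ.injective (by rw [Equiv.Perm.coe_inv, Equiv.apply_symm_apply, f.fix_b])
  fix_invs s hs := φ.injective (by rw [MulEquiv.apply_symm_apply, f.fix_invs s hs])

theorem map_stab {g : G} (hg : g • a = a) : φ g • a = a := by
  conv_lhs => arg 2; rw [← f.fix_a]
  rw [← f.smul, hg, f.fix_a]

theorem map_twoStab {g : G} (hg : g ∈ twoStab G a t) : φ g ∈ twoStab G a t := by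
  obtain ⟨h1, h2⟩ := mem_twoStab.1 hg
  refine mem_twoStab.2 ⟨f.map_stab h1, ?_⟩
  conv_lhs => arg 2; rw [← f.fix_b]
  rw [← f.smul, h2, f.fix_b]

theorem sigma_smul (x : G) : σ (x • t • a) = φ x • t • a := by rw [f.smul, f.fix_b]

variable [Finite G] (h : Model G Ω a t Q)
include h

theorem map_Q {x : G} (hx : x ∈ Q) : φ x ∈ Q := by
  have hS := h.hyp.setup
  obtain ⟨q, hq, d, hd, e⟩ := exists_Q_D hS (f.map_stab (Q_fix hS hx))
  have hpow : ∀ n : ℕ, ∃ q' ∈ Q, (q * d) ^ n = q' * d ^ n := by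
    intro n
    induction n with
    | zero => exact ⟨1, Q.one_mem, by simp⟩
    | succ n ih =>
      obtain ⟨q', hq', e'⟩ := ih
      refine ⟨q' * (d ^ n * q * (d ^ n)⁻¹), Q.mul_mem hq'
        (twoStab_norm hS ((twoStab G a t).pow_mem hd n) hq), ?_⟩
      rw [pow_succ, e', pow_succ]
      group
  obtain ⟨i, hi⟩ := h.isPGroup ⟨x, hx⟩
  have hi' : x ^ 2 ^ i = 1 := congrArg Subtype.val hi
  obtain ⟨q', hq', e'⟩ := hpow (2 ^ i)
  rw [← e, ← map_pow, hi', map_one] at e'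
  have hd2 : d ^ 2 ^ i = 1 :=
    (Q_D_unique hS Q.one_mem hq' (twoStab G a t).one_mem ((twoStab G a t).pow_mem hd _)
      (by rw [one_mul]; exact e')).2.symm
  have hd1 : d = 1 := by
    rw [← orderOf_eq_one_iff]
    have ho : Odd (orderOf d) := by
      refine hS.odd_card.of_dvd_nat ?_
      rw [← Subgroup.orderOf_mk d hd]
      exact orderOf_dvd_natCard _
    exact Nat.eq_one_of_dvd_coprimes ((Nat.coprime_two_right.2 ho).pow_right i) dvd_rfl
      (orderOf_dvd_of_pow_eq_one hd2)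
  rw [e, hd1, mul_one]
  exact hq

theorem map_invol {x : G} (hx : x ∈ Q) (h2 : x * x = 1) : φ x = x := by
  rcases (sq_one_iff h.hyp hx).1 h2 with rfl | hs
  · exact map_one φ
  · exact f.fix_invs x hs

theorem conj_invs {g : G} (hg : g • a = a) {s : G} (hs : s ∈ invs G a) :
    φ g * s * (φ g)⁻¹ = g * s * g⁻¹ := by
  rw [← f.fix_invs _ (inverted_conj_mem h.hyp.setup hs hg), map_mul, map_mul, map_inv,
    f.fix_invs s hs]

theorem map_vKer {v : G} (hv : v ∈ vKer a t) : φ v ∈ vKer a t := by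
  refine ⟨f.map_twoStab hv.1, Subgroup.mem_centralizer_iff.2 fun s hs => ?_⟩
  have e := f.conj_invs h hv.1.1 hs
  rw [← Subgroup.mem_centralizer_iff.1 hv.2 s hs, mul_inv_cancel_right] at e
  exact (mul_inv_eq_iff_eq_mul.1 e).symm

theorem map_kSet {k : G} (hk : k ∈ kSet a t) : φ k = k := by
  haveI := h.hyp.faithful
  have hS := h.hyp.setup
  have hv : k⁻¹ * φ k ∈ vKer a t := by
    refine ⟨(twoStab G a t).mul_mem ((twoStab G a t).inv_mem hk.1) (f.map_twoStab hk.1),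
      Subgroup.mem_centralizer_iff.2 fun s hs => ?_⟩
    have h1 := f.conj_invs h hk.1.1 hs
    have h2 : k⁻¹ * φ k * s * (k⁻¹ * φ k)⁻¹ = s := by
      calc k⁻¹ * φ k * s * (k⁻¹ * φ k)⁻¹ = k⁻¹ * (φ k * s * (φ k)⁻¹) * k := by group
        _ = s := by rw [h1]; group
    exact (mul_inv_eq_iff_eq_mul.1 h2).symm
  by_cases he : Nat.card Q = qNum G a ^ 3
  · obtain ⟨C, hC, -, -⟩ := Cfsg.Agent.S1131.result hS h.hyp.twoRank
    have hkC : k ∈ C := by rw [← SetLike.mem_coe, hC]; exact hk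
    have hcard : Nat.card C + 1 = qNum G a := by
      rw [qNum, ← card_invertedBy hS, show Nat.card C = Nat.card (C : Set G) from rfl, hC]
    have hk1 : k ^ (qNum G a - 1) = 1 := by
      rw [show qNum G a - 1 = Nat.card C by omega]
      exact pow_card_eq_one_mem hkC
    set v := k⁻¹ * φ k with hvdef
    have hcomm : Commute k v :=
      (RankOneCore.kernel_fixed hS h.hyp.twoRank hv.1 hv.2).2 k hk
    have hv1 : v ^ (qNum G a - 1) = 1 := by
      have e : φ k = k * v := by rw [hvdef]; group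
      have := congrArg φ hk1
      rw [map_pow, map_one, e, hcomm.mul_pow, hk1, one_mul] at this
      exact this
    have hv2 : v ^ (qNum G a + 1) = 1 := by
      obtain ⟨m, hm⟩ := (h.card_ker he).2
      rw [hm, pow_mul, pow_card_eq_one_mem hv, one_pow]
    have h4 := h.four_le
    rw [show qNum G a + 1 = (qNum G a - 1) + 2 by omega, pow_add, hv1, one_mul, sq] at hv2
    have := eq_one_of_sq hS.odd_card hv.1 hv2
    rw [hvdef, inv_mul_eq_one] at this
    exact this.symm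
  · rw [h.ker_eq_bot he, Subgroup.mem_bot, inv_mul_eq_one] at hv
    exact hv.symm

/-- A symmetry fixing `Q` fixes all points. -/
theorem eq_one_of_map_Q (hQ : ∀ x ∈ Q, φ x = x) : σ = 1 := by
  refine Equiv.ext fun p => ?_
  by_cases hp : p = a
  · rw [hp, f.fix_a, Equiv.Perm.one_apply]
  · obtain ⟨x, hx, rfl⟩ := Q_trans h.hyp.setup (t_smul_ne h.hyp.setup) hp
    rw [f.sigma_smul, hQ x hx, Equiv.Perm.one_apply]

/-- For `L2(q)` and `Sz(q)` there is only the identity. -/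
theorem eq_one (hne : Nat.card Q ≠ qNum G a ^ 3) : σ = 1 := by
  classical
  haveI := h.hyp.faithful
  have hS := h.hyp.setup
  have h4 := h.four_le
  refine f.eq_one_of_map_Q h ?_
  obtain ⟨e, he, hcard⟩ := h.card_cases
  by_cases hc : IsMulCommutative Q
  · have hq := Abelian.Main.propAbelian G Ω a t Q h.hyp h.isPGroup hc
    intro x hx
    refine f.map_invol h hx ?_
    have hinj : Function.Injective (fun y : {y : Q // y * y = 1} => (y : Q)) := Subtype.val_injective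
    obtain ⟨y, hy⟩ := ((Nat.bijective_iff_injective_and_card _).2
      ⟨hinj, by rw [hq, qNum_eq_card h.hyp]⟩).2 ⟨x, hx⟩
    rw [← show ((y : Q) : G) = x from congrArg Subtype.val hy]
    exact congrArg Subtype.val y.2
  have hsq2 : Nat.card Q = qNum G a ^ 2 :=
    (nonabelian_structure h.hyp h.isPGroup hc).2.2.2.resolve_right hne
  obtain ⟨hiff, hsq, -, -⟩ := nonabelian_structure h.hyp h.isPGroup hc
  let Z := Subgroup.center Q
  have hZ : Nat.card Z = qNum G a := by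
    rw [qNum_eq_card h.hyp]
    exact Nat.card_congr (Equiv.subtypeEquivRight fun x => (hiff x).symm)
  have hquot : Nat.card (Q ⧸ Z) = Nat.card Z := by
    have := Subgroup.card_eq_card_quotient_mul_card_subgroup Z
    rw [hsq2, hZ, sq] at this
    rw [hZ]
    exact (Nat.eq_of_mul_eq_mul_right (hZ ▸ Nat.card_pos) this).symm
  have hcen : ∀ {z : Q}, z ∈ Z → ∀ y : Q, y * z = z * y := fun hz y =>
    Subgroup.mem_center_iff.1 hz y
  let s : Q ⧸ Z → Z := Quotient.lift (fun x : Q => (⟨x * x, hsq x⟩ : Z)) fun x y hxy => by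
    have hz : x⁻¹ * y ∈ Z := QuotientGroup.leftRel_apply.1 hxy
    refine Subtype.ext (?_ : x * x = y * y)
    calc x * x = x * x * ((x⁻¹ * y) * (x⁻¹ * y)) := by rw [(hiff _).2 hz, mul_one]
      _ = x * (x * (x⁻¹ * y)) * (x⁻¹ * y) := by group
      _ = x * ((x⁻¹ * y) * x) * (x⁻¹ * y) := by rw [hcen hz x]
      _ = y * y := by group
  obtain ⟨x₀, hx₀⟩ : ∃ x₀ : Q, x₀ ∉ Z := by
    by_contra hall
    push Not at hall
    exact hc ⟨⟨fun x y => (hcen (hall x) y).symm⟩⟩
  have hinv : ∀ y : Q, y ≠ 1 → y * y = 1 → (y : G) ∈ invs G a := fun y hy1 hy2 =>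
    ((sq_one_iff h.hyp y.2).1 (congrArg Subtype.val hy2)).resolve_left fun e => hy1 (Subtype.ext e)
  have hx02 : x₀ * x₀ ≠ 1 := fun e => hx₀ ((hiff _).1 e)
  let K : ∀ k ∈ kSet a t, Q → Q := fun k hk y => ⟨k * y * k⁻¹, twoStab_norm hS hk.1 y.2⟩
  have hsurj : Function.Surjective s := by
    rintro ⟨z, hz⟩
    by_cases hz1 : z = 1
    · exact ⟨((1 : Q) : Q ⧸ Z), Subtype.ext (show (1 : Q) * 1 = z by rw [hz1, one_mul])⟩
    obtain ⟨k, ⟨hk, hkz⟩, -⟩ := existsUnique_K hS (hinv _ hx02 ((hiff _).2 (hsq x₀)))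
      (hinv z hz1 ((hiff z).2 hz))
    refine ⟨(K k hk x₀ : Q ⧸ Z), Subtype.ext (Subtype.ext ?_)⟩
    show k * (x₀ : G) * k⁻¹ * (k * (x₀ : G) * k⁻¹) = z
    rw [← hkz, Subgroup.coe_mul]
    group
  have hinj : Function.Injective s :=
    ((Nat.bijective_iff_surjective_and_card s).2 ⟨hsurj, hquot⟩).1
  have hcoset : ∀ x y : Q, x * x = y * y → x⁻¹ * y ∈ Z := fun x y e =>
    QuotientGroup.eq.1 (hinj (Subtype.ext e : s (x : Q ⧸ Z) = s (y : Q ⧸ Z)))
  let P : Q → Q := fun x => ⟨φ x, f.map_Q h x.2⟩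
  have hPmul : ∀ x y, P (x * y) = P x * P y := fun x y => Subtype.ext (map_mul φ _ _)
  have hPz : ∀ z : Q, z ∈ Z → P z = z := fun z hz =>
    Subtype.ext (f.map_invol h z.2 (congrArg Subtype.val ((hiff z).2 hz)))
  let F : Q → Q := fun x => x⁻¹ * P x
  have hFZ : ∀ x, F x ∈ Z := fun x => hcoset x (P x) (by rw [← hPmul, hPz _ (hsq x)])
  have hFmul : ∀ x y, F (x * y) = F x * F y := by
    intro x y
    calc F (x * y) = y⁻¹ * (x⁻¹ * P x) * P y := by
          show (x * y)⁻¹ * P (x * y) = _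
          rw [hPmul]; group
      _ = F x * F y := by
          show y⁻¹ * F x * P y = F x * (y⁻¹ * P y)
          rw [hcen (hFZ x) y⁻¹, mul_assoc]
  have hFone : ∀ z ∈ Z, F z = 1 := fun z hz => by
    show z⁻¹ * P z = 1
    rw [hPz z hz, inv_mul_cancel]
  have hFK : ∀ k (hk : k ∈ kSet a t) x, F (K k hk x) = K k hk (F x) := by
    intro k hk x
    refine Subtype.ext ?_
    show (k * (x : G) * k⁻¹)⁻¹ * φ (k * x * k⁻¹) = k * ((x : G)⁻¹ * φ x) * k⁻¹
    rw [map_mul, map_mul, map_inv, f.map_kSet h hk]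
    group
  suffices hF : F x₀ = 1 by
    intro x hx
    have h1 : F ⟨x, hx⟩ = 1 := by
      by_cases hxz : (⟨x, hx⟩ : Q) ∈ Z
      · exact hFone _ hxz
      obtain ⟨k, ⟨hk, hkz⟩, -⟩ := existsUnique_K hS (hinv _ hx02 ((hiff _).2 (hsq x₀)))
        (hinv (⟨x, hx⟩ * ⟨x, hx⟩) (fun e => hxz ((hiff _).1 e)) ((hiff _).2 (hsq ⟨x, hx⟩)))
      have hm := hcoset (K k hk x₀) ⟨x, hx⟩ (Subtype.ext (by
        show k * (x₀ : G) * k⁻¹ * (k * x₀ * k⁻¹) = x * x
        rw [show x * x = ((⟨x, hx⟩ * ⟨x, hx⟩ : Q) : G) from rfl, ← hkz, Subgroup.coe_mul]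
        group))
      rw [show (⟨x, hx⟩ : Q) = K k hk x₀ * ((K k hk x₀)⁻¹ * ⟨x, hx⟩) by group, hFmul,
        hFone _ hm, mul_one, hFK k hk, hF]
      exact Subtype.ext (by simp [K])
    have h2 : x⁻¹ * φ x = 1 := congrArg Subtype.val h1
    exact (inv_mul_eq_one.1 h2).symm
  by_contra hF
  obtain ⟨k₀, ⟨hk₀, hk0⟩, -⟩ := existsUnique_K hS (hinv _ hx02 ((hiff _).2 (hsq x₀)))
    (hinv _ hF ((hiff _).2 (hFZ x₀)))
  obtain ⟨C, hC, hcyc, -⟩ := Cfsg.Agent.S1131.result hS h.hyp.twoRank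
  have hKcomm : ∀ k ∈ kSet a t, ∀ l ∈ kSet a t, k * l = l * k := by
    intro k hk l hl
    haveI := hcyc
    have hkC : k ∈ C := by rw [← SetLike.mem_coe, hC]; exact hk
    have hlC : l ∈ C := by rw [← SetLike.mem_coe, hC]; exact hl
    exact congrArg Subtype.val (IsCyclic.commutative.is_comm.comm (⟨k, hkC⟩ : C) ⟨l, hlC⟩)
  have hall : ∀ x : Q, F x = K k₀ hk₀ (x * x) := by
    intro x
    by_cases hxz : x ∈ Z
    · rw [hFone x hxz, (hiff x).2 hxz]
      exact Subtype.ext (by simp [K])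
    obtain ⟨k, ⟨hk, hkz⟩, -⟩ := existsUnique_K hS (hinv _ hx02 ((hiff _).2 (hsq x₀)))
      (hinv (x * x) (fun e => hxz ((hiff _).1 e)) ((hiff _).2 (hsq x)))
    have hm := hcoset (K k hk x₀) x (Subtype.ext (by
      show k * (x₀ : G) * k⁻¹ * (k * x₀ * k⁻¹) = ((x * x : Q) : G)
      rw [← hkz, Subgroup.coe_mul]
      group))
    rw [show x = K k hk x₀ * ((K k hk x₀)⁻¹ * x) by group, hFmul, hFone _ hm, mul_one, hFK k hk]
    refine Subtype.ext ?_
    rw [show K k hk x₀ * ((K k hk x₀)⁻¹ * x) = x by group]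
    show k * (F x₀ : G) * k⁻¹ = k₀ * ((x * x : Q) : G) * k₀⁻¹
    rw [← hk0, ← hkz]
    calc k * (k₀ * ((x₀ * x₀ : Q) : G) * k₀⁻¹) * k⁻¹
        = (k * k₀) * ((x₀ * x₀ : Q) : G) * (k * k₀)⁻¹ := by group
      _ = (k₀ * k) * ((x₀ * x₀ : Q) : G) * (k₀ * k)⁻¹ := by rw [hKcomm k hk k₀ hk₀]
      _ = _ := by group
  refine hc ⟨⟨fun x y => ?_⟩⟩
  have h1 := hFmul x y
  rw [hall, hall x, hall y] at h1
  have h2 : x * y * (x * y) = x * x * (y * y) := by
    have h3 := congrArg Subtype.val h1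
    change k₀ * ((x * y * (x * y) : Q) : G) * k₀⁻¹ =
      k₀ * ((x * x : Q) : G) * k₀⁻¹ * (k₀ * ((y * y : Q) : G) * k₀⁻¹) at h3
    refine Subtype.ext (mul_left_cancel (a := k₀) (mul_right_cancel (b := k₀⁻¹) ?_))
    rw [h3]
    push_cast
    group
  simp only [mul_assoc, mul_right_inj] at h2
  simp only [← mul_assoc, mul_left_inj] at h2
  exact h2.symm

end Fixer

end Cfsg.Agent.Lib.Crit5.Shape
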